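import Cfsg.Agent.Lib.Aschbacher.SUExplicit.NonContain
import Cfsg.Agent.Lib.Aschbacher.FormGram
import Cfsg.Agent.Lib.MaxCl.UnitaryDecompMax

/-!
Over four elements the plane decompositions and the tensor decompositions with a two-dimensional factor of a
Hermitian form are stabilised inside stabilisers of finer, resp. coarser, orthogonal decompositions.
-/

set_option autoImplicit false

namespace Cfsg.Agent.Aschbacher.SUExplicit

open Matrix
open scoped MatrixGroups Kronecker

variable {ι : Type} [Fintype ι] [DecidableEq ι] {F : Type*} [Field F] [Fintype F] {q : ℕ} {σ : F ≃+* F}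
  {f : (ι → F) → (ι → F) → F}

theorem Herm.of_pow (h : Herm q σ f) {κ : Type} [Fintype κ] [DecidableEq κ] {g : (κ → F) → (κ → F) → F}
    (hg : Geo.IsUnitaryFormPow q g) : Herm q σ g :=
  ⟨h.card, h.apply_eq, ⟨h.form.ne_refl, h.form.involutive, hg.add_left, hg.smul_left,
    fun v w => by rw [h.apply_eq]; exact hg.herm v w, hg.nondegenerate⟩⟩

theorem form_pureVec {n₁ n₂ : ℕ} {f₁ : (Fin n₁ → F) → (Fin n₁ → F) → F} {f₂ : (Fin n₂ → F) → (Fin n₂ → F) → F}
    (h₁ : Herm q σ f₁) (h₂ : Herm q σ f₂) {e : ι ≃ Fin n₁ × Fin n₂} {P : GL ι F}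
    (h : Geo.IsTensorFormStructure (fun x : F => x ^ q) f f₁ f₂ e P) :
    ∃ c : F, c ≠ 0 ∧ ∀ x y x' y', f (SpExplicit.pureVec e P x y) (SpExplicit.pureVec e P x' y') =
      c * (f₁ x x' * f₂ y y') := by
  obtain ⟨c, hc, h⟩ := h
  refine ⟨c, hc, fun x y x' y' => ?_⟩
  rw [SpExplicit.pureVec, SpExplicit.pureVec, h, h₁.sesq.eq_matForm, h₂.sesq.eq_matForm,
    ← formOfGram_eq_matForm, ← formOfGram_eq_matForm]
  congr 1
  simp only [Geo.formOfGram, Fintype.sum_prod_type, Fintype.sum_mul_sum, Matrix.kroneckerMap_apply,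
    RingEquiv.toRingHom_eq_coe, RingHom.coe_coe, h₁.apply_eq, mul_pow]
  refine Finset.sum_congr rfl fun a _ => Finset.sum_congr rfl fun b _ =>
    Finset.sum_congr rfl fun a' _ => Finset.sum_congr rfl fun b' _ => ?_
  ring

/-- Orthogonal non-degenerate subspaces of complementary dimensions form a decomposition. -/
theorem nondegenerateMDecomposition (h : Herm q σ f) {t m : ℕ} (ht : 2 ≤ t) (hm : 0 < m)
    {D : Fin t → Submodule F (ι → F)} (hdim : ∀ i, Module.finrank F (D i) = m)
    (hcard : Fintype.card ι = t * m) (hnd : ∀ i, Geo.IsNondegenerateOn f (D i))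
    (horth : ∀ i j, i ≠ j → Geo.AreOrthogonalFor f (D i) (D j)) :
    Geo.IsNondegenerateMDecomposition f m D := by
  classical
  let Φ : (Π i, D i) →ₗ[F] (ι → F) := ∑ i, (D i).subtype ∘ₗ LinearMap.proj i
  have hΦapply : ∀ w : Π i, D i, Φ w = ∑ i, ((w i : D i) : ι → F) := fun w => by
    simp [Φ, LinearMap.sum_apply]
  have hproj : ∀ (w : Π i, D i) (i : Fin t), ∀ x ∈ D i, f (Φ w) x = f (w i : D i) x := by
    intro w i x hx
    show MaxCl.Unit.flinU h.form x (Φ w) = _
    rw [hΦapply, map_sum]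
    show ∑ j, f ((w j : D j) : ι → F) x = _
    rw [Finset.sum_eq_single i (fun j _ hj => horth j i hj _ (w j).2 x hx)
      (fun hn => absurd (Finset.mem_univ i) hn)]
  have hinj : Function.Injective Φ := by
    rw [← LinearMap.ker_eq_bot, Submodule.eq_bot_iff]
    intro w hw
    funext i
    by_contra hne
    obtain ⟨x, hx, hx'⟩ := (hnd i _ (w i).2 fun h => hne (Subtype.ext h)).2
    exact hx' (by rw [← hproj w i x hx, show Φ w = 0 from hw, h.zero_left])
  have hsurj : Function.Surjective Φ := by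
    refine (LinearMap.injective_iff_surjective_of_finrank_eq_finrank ?_).1 hinj
    rw [Module.finrank_pi_fintype, Module.finrank_fintype_fun_eq_card, hcard]
    simp [hdim]
  refine ⟨⟨ht, hm, hdim, ?_, ?_⟩, hnd, horth⟩
  · intro i
    rw [Submodule.disjoint_def]
    intro v hv hv'
    by_contra hne
    obtain ⟨x, hx, hx'⟩ := (hnd i v hv hne).2
    refine hx' ?_
    have hle : (⨆ (j) (_ : j ≠ i), D j) ≤ LinearMap.ker (MaxCl.Unit.flinU h.form x) :=
      iSup₂_le fun j hj u hu => horth j i hj u hu x hx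
    exact hle hv'
  · rw [eq_top_iff]
    rintro v -
    obtain ⟨w, rfl⟩ := hsurj v
    rw [hΦapply]
    exact Submodule.sum_mem _ fun i _ => Submodule.mem_iSup_of_mem i (w i).2

/-- Over four elements the norm of a non-zero element is one. -/
theorem norm_eq_one (h : Herm q σ f) (hq : q = 2) {a : F} (ha : a ≠ 0) : a * σ a = 1 := by
  subst hq
  rw [h.apply_eq]
  have h1 := FiniteField.pow_card_sub_one_eq_one a ha
  rw [h.card] at h1
  linear_combination h1

theorem two_eq_zero (h : Herm q σ f) (hq : q = 2) : (2 : F) = 0 := by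
  have h1 := Nat.cast_card_eq_zero F
  rw [h.card, hq, Nat.cast_pow, Nat.cast_ofNat] at h1
  exact pow_eq_zero_iff two_ne_zero |>.1 h1

/-- An anisotropic vector of a plane over four elements lies on a member of a given orthonormal pair. -/
theorem mem_line_of_anisotropic (h : Herm q σ f) (hq : q = 2) {u : Fin 2 → (ι → F)}
    (hu : ∀ r s, f (u r) (u s) = if r = s then 1 else 0) {x : ι → F}
    (hx : x ∈ Submodule.span F (Set.range u)) (hx0 : f x x ≠ 0) : ∃ r, x ∈ Submodule.span F {u r} := by
  obtain ⟨a, rfl⟩ := (Submodule.mem_span_range_iff_exists_fun F).1 hx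
  rw [Fin.sum_univ_two] at hx0 ⊢
  by_cases h0 : a 0 = 0
  · exact ⟨1, Submodule.mem_span_singleton.2 ⟨a 1, by rw [h0, zero_smul, zero_add]⟩⟩
  by_cases h1 : a 1 = 0
  · exact ⟨0, Submodule.mem_span_singleton.2 ⟨a 0, by rw [h1, zero_smul, add_zero]⟩⟩
  exfalso
  apply hx0
  simp only [h.sesq.add_left, h.sesq.add_right, h.sesq.smul_left, h.sesq.smul_right, hu,
    RingEquiv.toRingHom_eq_coe, RingHom.coe_coe]
  simp only [show ((0 : Fin 2) = 1) = False by simp, show ((1 : Fin 2) = 0) = False by simp, if_true,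
    if_false, mul_one, mul_zero, add_zero, zero_add, norm_eq_one h hq h0, norm_eq_one h hq h1]
  linear_combination two_eq_zero h hq

/-- A plane decomposition over four elements refines to an invariant frame. -/
theorem exists_frame_of_planes (h : Herm q σ f) (hq : q = 2) {t : ℕ} {D : Fin t → Submodule F (ι → F)}
    (hD : Geo.IsNondegenerateMDecomposition f 2 D) :
    ∃ D' : Fin (t * 2) → Submodule F (ι → F), Geo.IsNondegenerateMDecomposition f 1 D' ∧
      Geo.decompositionStabilizer D ⊓ preserving (glToMat ι F) f ≤ Geo.decompositionStabilizer D' := by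
  classical
  have hfam := fun l => MaxCl.Unit.exists_orthonormal_family h.form 2 (D l) (hD.nondegenerate l) (hD.decomp.finrank_eq l)
  choose u hu huu using hfam
  have hne : ∀ l r, u l r ≠ 0 := fun l r h0 => by
    have := huu l r r
    rw [h0, h.zero_left, if_pos rfl] at this
    exact zero_ne_one this
  let E : Fin (t * 2) ≃ Fin t × Fin 2 := finProdFinEquiv.symm
  let D' : Fin (t * 2) → Submodule F (ι → F) := fun a => Submodule.span F {u (E a).1 (E a).2}
  have hvv : ∀ a b, f (u (E a).1 (E a).2) (u (E b).1 (E b).2) = if a = b then 1 else 0 := by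
    intro a b
    by_cases hab : a = b
    · subst hab; rw [if_pos rfl, huu, if_pos rfl]
    · rw [if_neg hab]
      by_cases h1 : (E a).1 = (E b).1
      · rw [h1, huu, if_neg fun h2 => hab (E.injective (Prod.ext h1 h2))]
      · exact hD.orthogonal _ _ h1 _ (hu _ _) _ (hu _ _)
  have hspan : ∀ l, Submodule.span F (Set.range (u l)) = D l := by
    intro l
    refine Submodule.eq_of_le_of_finrank_eq (Submodule.span_le.2 (Set.range_subset_iff.2 (hu l))) ?_
    rw [finrank_span_eq_card (R := F), Fintype.card_fin, hD.decomp.finrank_eq]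
    rw [Fintype.linearIndependent_iff]
    intro s hs r
    have h1 := congrArg (MaxCl.Unit.flinU h.form (u l r)) hs
    rw [map_sum, map_zero, Finset.sum_eq_single r (fun j _ hj => by
      rw [map_smul, MaxCl.Unit.flinU_apply, huu, if_neg hj, smul_zero]) (fun hn => absurd (Finset.mem_univ r) hn),
      map_smul, MaxCl.Unit.flinU_apply, huu, if_pos rfl, smul_eq_mul, mul_one] at h1
    exact h1
  refine ⟨D', nondegenerateMDecomposition h (by have := hD.decomp.two_le; omega) one_pos
    (fun a => finrank_span_singleton (hne _ _)) (by rw [card_eq_of_isMDecomposition hD.decomp, mul_one])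
    (fun a w hw hw0 => ?_) (fun a b hab v hv w hw => ?_), ?_⟩
  · obtain ⟨r, rfl⟩ := Submodule.mem_span_singleton.1 hw
    have hr : r ≠ 0 := fun h0 => hw0 (by rw [h0, zero_smul])
    refine ⟨⟨_, Submodule.mem_span_singleton_self _, ?_⟩, _, Submodule.mem_span_singleton_self _, ?_⟩
    · rw [h.sesq.smul_right, hvv, if_pos rfl, mul_one]; simpa using hr
    · rw [h.sesq.smul_left, hvv, if_pos rfl, mul_one]; exact hr
  · obtain ⟨r, rfl⟩ := Submodule.mem_span_singleton.1 hv
    obtain ⟨s, rfl⟩ := Submodule.mem_span_singleton.1 hw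
    rw [h.sesq.smul_left, h.sesq.smul_right, hvv, if_neg hab, mul_zero, mul_zero]
  rintro g ⟨⟨π, hπ⟩, hgf⟩
  have himg : ∀ a, ∃ b, (g : Matrix ι ι F) *ᵥ u (E a).1 (E a).2 ∈ D' b := by
    intro a
    have h1 : (g : Matrix ι ι F) *ᵥ u (E a).1 (E a).2 ∈ D (π (E a).1) := by
      rw [← hπ]; exact ⟨_, hu _ _, Matrix.toLin'_apply _ _⟩
    rw [← hspan] at h1
    obtain ⟨r, hr⟩ := mem_line_of_anisotropic h hq (huu _) h1 (by
      have h2 := (mem_preserving.1 hgf) (u (E a).1 (E a).2) (u (E a).1 (E a).2)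
      rw [h2, hvv, if_pos rfl]; exact one_ne_zero)
    exact ⟨E.symm (π (E a).1, r), by simpa [D'] using hr⟩
  choose ρ hρ using himg
  have hinj : Function.Injective ρ := by
    intro a b hab
    by_contra hne'
    obtain ⟨r, hr⟩ := Submodule.mem_span_singleton.1 (hρ a)
    obtain ⟨s, hs⟩ := Submodule.mem_span_singleton.1 (hρ b)
    rw [hab] at hr
    have h2 := (mem_preserving.1 hgf) (u (E a).1 (E a).2) (u (E b).1 (E b).2)
    rw [← hr, ← hs, hvv, if_neg hne', h.sesq.smul_left, h.sesq.smul_right, hvv, if_pos rfl, mul_one,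
      mul_eq_zero] at h2
    rcases h2 with h2 | h2
    · refine hne (E a).1 (E a).2 ((Aschbacher.mulVec_eq_zero_iff g).1 ?_)
      rw [← hr, h2, zero_smul]
    · refine hne (E b).1 (E b).2 ((Aschbacher.mulVec_eq_zero_iff g).1 ?_)
      rw [← hs, show s = 0 by simpa using h2, zero_smul]
  refine ⟨Equiv.ofBijective ρ (Finite.injective_iff_bijective.1 hinj), fun a => ?_⟩
  refine Submodule.eq_of_le_of_finrank_eq ?_ ?_
  · rintro _ ⟨w, hw, rfl⟩
    obtain ⟨r, rfl⟩ := Submodule.mem_span_singleton.1 hw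
    rw [map_smul, Matrix.toLin'_apply]
    exact Submodule.smul_mem _ _ (hρ a)
  · show Module.finrank F (Aschbacher.translate g (D' a)) = _
    rw [finrank_translate]
    show Module.finrank F (Submodule.span F {_}) = Module.finrank F (Submodule.span F {_})
    rw [finrank_span_singleton (hne _ _), finrank_span_singleton (hne _ _)]

/-- Over four elements a tensor decomposition with a two-dimensional factor stabilises two orthogonal
subspaces. -/
theorem exists_pair_of_tensor_two (h : Herm q σ f) (hq : q = 2) {k : ℕ} (hk : 0 < k)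
    {f₁ : (Fin 2 → F) → (Fin 2 → F) → F} {f₂ : (Fin k → F) → (Fin k → F) → F}
    (hf₁ : Geo.IsUnitaryFormPow q f₁) (hf₂ : Geo.IsUnitaryFormPow q f₂)
    {e : ι ≃ Fin 2 × Fin k} {P : GL ι F}
    (hstr : Geo.IsTensorFormStructure (fun x : F => x ^ q) f f₁ f₂ e P) :
    ∃ D : Fin 2 → Submodule F (ι → F), Geo.IsNondegenerateMDecomposition f k D ∧
      Geo.tensorProductSubgroup 2 k e P ⊓ preserving (glToMat ι F) f ≤ Geo.decompositionStabilizer D := by
  classical
  haveI : NeZero k := ⟨by omega⟩
  have h₁ := Herm.of_pow h hf₁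
  have h₂ := Herm.of_pow h hf₂
  obtain ⟨c, hc, hform⟩ := form_pureVec h₁ h₂ hstr
  obtain ⟨u, -, huu⟩ := MaxCl.Unit.exists_orthonormal_family h₁.form 2 ⊤
    (fun w _ hw => ⟨let ⟨x, hx⟩ := (h₁.form.nondegenerate w hw).1; ⟨x, trivial, hx⟩,
      let ⟨x, hx⟩ := (h₁.form.nondegenerate w hw).2; ⟨x, trivial, hx⟩⟩) (by simp)
  obtain ⟨v, -, hvv⟩ := MaxCl.Unit.exists_orthonormal_family h₂.form k ⊤
    (fun w _ hw => ⟨let ⟨x, hx⟩ := (h₂.form.nondegenerate w hw).1; ⟨x, trivial, hx⟩,
      let ⟨x, hx⟩ := (h₂.form.nondegenerate w hw).2; ⟨x, trivial, hx⟩⟩) (by simp)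
  let L : Fin 2 → (Fin k → F) →ₗ[F] (ι → F) := fun i =>
    { toFun := fun y => SpExplicit.pureVec e P (u i) y
      map_add' := fun x y => by
        simp only [SpExplicit.pureVec, ← Matrix.mulVec_add]; congr 1; funext l; simp [mul_add]
      map_smul' := fun r x => by
        simp only [SpExplicit.pureVec, RingHom.id_apply, ← Matrix.mulVec_smul]; congr 1; funext l
        simp [mul_left_comm] }
  have hL : ∀ i y, L i y = SpExplicit.pureVec e P (u i) y := fun _ _ => rfl
  have hLinj : ∀ i, Function.Injective (L i) := fun i => by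
    rw [← LinearMap.ker_eq_bot, Submodule.eq_bot_iff]
    intro y hy
    by_contra hy0
    obtain ⟨y', hy'⟩ := (h₂.form.nondegenerate y hy0).2
    have h1 := hform (u i) y (u i) y'
    rw [← hL i y, show L i y = 0 from hy, h.zero_left, huu, if_pos rfl, one_mul] at h1
    exact mul_ne_zero hc hy' h1.symm
  refine ⟨fun i => LinearMap.range (L i), nondegenerateMDecomposition h le_rfl hk
    (fun i => (LinearMap.finrank_range_of_inj (hLinj i)).trans (Module.finrank_fin_fun F))
    (by rw [Fintype.card_congr e]; simp) ?_ ?_, ?_⟩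
  · rintro i _ ⟨y, rfl⟩ hy0
    obtain ⟨⟨y', hy'⟩, y'', hy''⟩ := h₂.form.nondegenerate y fun h0 => hy0 (by rw [h0, map_zero])
    exact ⟨⟨_, ⟨y', rfl⟩, by rw [hL, hL, hform, huu, if_pos rfl, one_mul]; exact mul_ne_zero hc hy'⟩,
      _, ⟨y'', rfl⟩, by rw [hL, hL, hform, huu, if_pos rfl, one_mul]; exact mul_ne_zero hc hy''⟩
  · rintro i j hij _ ⟨x, rfl⟩ _ ⟨y, rfl⟩
    rw [hL, hL, hform, huu, if_neg hij, zero_mul, mul_zero]
  rintro g ⟨hg, hgf⟩
  obtain ⟨a, b, hab⟩ := SpExplicit.exists_factors hg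
  set z := v 0
  have himg : ∀ i, ∃ j, (a : Matrix (Fin 2) (Fin 2) F) *ᵥ u i ∈ Submodule.span F {u j} := by
    intro i
    have h2 := (mem_preserving.1 hgf) (SpExplicit.pureVec e P (u i) z) (SpExplicit.pureVec e P (u i) z)
    rw [hab, hform, hform, huu, if_pos rfl, hvv, if_pos rfl, mul_one] at h2
    refine mem_line_of_anisotropic h₁ hq huu ?_ fun h0 => ?_
    · have : Submodule.span F (Set.range u) = ⊤ := by
        refine LinearIndependent.span_eq_top_of_card_eq_finrank ?_ (by simp)
        rw [Fintype.linearIndependent_iff]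
        intro s hs r
        have h1 := congrArg (MaxCl.Unit.flinU h₁.form (u r)) hs
        rw [map_sum, map_zero, Finset.sum_eq_single r (fun j _ hj => by
          rw [map_smul, MaxCl.Unit.flinU_apply, huu, if_neg hj, smul_zero]) (fun hn => absurd (Finset.mem_univ r) hn),
          map_smul, MaxCl.Unit.flinU_apply, huu, if_pos rfl, smul_eq_mul, mul_one] at h1
        exact h1
      rw [this]; trivial
    · rw [h0, zero_mul, mul_zero, mul_one] at h2
      exact hc h2.symm
  choose ρ hρ using himg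
  have hinj : Function.Injective ρ := by
    intro i j hij
    by_contra hne
    have h2 := (mem_preserving.1 hgf) (SpExplicit.pureVec e P (u i) z) (SpExplicit.pureVec e P (u j) z)
    obtain ⟨r, hr⟩ := Submodule.mem_span_singleton.1 (hρ i)
    obtain ⟨s, hs⟩ := Submodule.mem_span_singleton.1 (hρ j)
    rw [hab, hab, hform, hform, ← hr, ← hs, hij, h₁.sesq.smul_left, h₁.sesq.smul_right, huu, if_pos rfl,
      huu, if_neg hne, zero_mul, mul_zero, mul_eq_zero] at h2
    rcases (mul_eq_zero.1 (h2.resolve_left hc)) with h3 | h3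
    · rw [mul_one, mul_eq_zero] at h3
      have hnz : ∀ i, (a : Matrix (Fin 2) (Fin 2) F) *ᵥ u i ≠ 0 := fun i h0 => by
        have := huu i i
        rw [(Aschbacher.mulVec_eq_zero_iff a).1 h0, h₁.zero_left, if_pos rfl] at this
        exact zero_ne_one this
      rcases h3 with h3 | h3
      · exact hnz i (by rw [← hr, h3, zero_smul])
      · exact hnz j (by rw [← hs, show s = 0 by simpa using h3, zero_smul])
    · have := (mem_preserving.1 hgf) (SpExplicit.pureVec e P (u i) z) (SpExplicit.pureVec e P (u i) z)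
      rw [hab, hform, hform, h3, mul_zero, mul_zero, huu, if_pos rfl, hvv, if_pos rfl, mul_one, mul_one] at this
      exact hc this.symm
  refine ⟨Equiv.ofBijective ρ (Finite.injective_iff_bijective.1 hinj), fun i => ?_⟩
  refine Submodule.eq_of_le_of_finrank_eq ?_ ?_
  · rintro _ ⟨_, ⟨y, rfl⟩, rfl⟩
    rw [Matrix.toLin'_apply, hL, hab]
    obtain ⟨r, hr⟩ := Submodule.mem_span_singleton.1 (hρ i)
    refine ⟨r • ((b : Matrix (Fin k) (Fin k) F) *ᵥ y), ?_⟩
    rw [map_smul, hL, ← hr]
    show r • SpExplicit.pureVec e P (u (ρ i)) _ = _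
    simp only [SpExplicit.pureVec, ← Matrix.mulVec_smul]
    congr 1
    funext l
    simp [mul_assoc]
  · show Module.finrank F (Aschbacher.translate g (LinearMap.range (L i))) = _
    rw [finrank_translate, LinearMap.finrank_range_of_inj (hLinj i)]
    exact (LinearMap.finrank_range_of_inj (hLinj _)).symm

end Cfsg.Agent.Aschbacher.SUExplicit
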