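import Cfsg.Agent.Lib.Aschbacher.SUExplicit.NonContain
import Cfsg.Agent.Lib.Aschbacher.SpExplicit.Dims
import Cfsg.Agent.Lib.PGroup.Basic

/-!
Groups of symplectic type of exponent `r · gcd(2, r)`: commutators are central, and no transvection normalises
an absolutely irreducible one.
-/

set_option autoImplicit false

namespace Cfsg.Agent.Aschbacher.SUExplicit

open Matrix
open scoped MatrixGroups

/-- In a finite group of odd prime exponent whose characteristic abelian subgroups are cyclic, commutators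
are central. -/
theorem commutator_le_center {G : Type*} [Group G] [Finite G] {r : ℕ} (hr : r.Prime) (hexp : ∀ x : G, x ^ r = 1)
    (hch : ∀ A : Subgroup G, A.Characteristic → IsMulCommutative A → IsCyclic A) :
    commutator G ≤ Subgroup.center G := by
  classical
  have : Fact r.Prime := ⟨hr⟩
  have hG : IsPGroup r G := fun x => ⟨1, by rw [pow_one, hexp]⟩
  by_contra hnot
  let Z := Subgroup.center G
  let Z2 : Subgroup G :=
    { carrier := {a | ∀ g : G, a * g * a⁻¹ * g⁻¹ ∈ Z}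
      one_mem' := fun g => by simp
      mul_mem' := fun {a b} ha hb g => by
        have h1 : a * b * g * (a * b)⁻¹ * g⁻¹ = (a * g * a⁻¹ * g⁻¹) * (b * g * b⁻¹ * g⁻¹) := by
          have hc := Subgroup.mem_center_iff.1 (hb g)
          calc a * b * g * (a * b)⁻¹ * g⁻¹ = a * (b * g * b⁻¹ * g⁻¹) * (g * a⁻¹ * g⁻¹) := by group
            _ = (b * g * b⁻¹ * g⁻¹) * a * (g * a⁻¹ * g⁻¹) := by rw [hc a]
            _ = (b * g * b⁻¹ * g⁻¹) * (a * g * a⁻¹ * g⁻¹) := by group
            _ = _ := (hc _).symm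
        rw [h1]
        exact mul_mem (ha g) (hb g)
      inv_mem' := fun {a} ha g => by
        have hc := Subgroup.mem_center_iff.1 (ha g)
        have h1 : a⁻¹ * g * a⁻¹⁻¹ * g⁻¹ = (a * g * a⁻¹ * g⁻¹)⁻¹ := by
          calc a⁻¹ * g * a⁻¹⁻¹ * g⁻¹ = a⁻¹ * (a * g * a⁻¹ * g⁻¹)⁻¹ * a := by group
            _ = (a * g * a⁻¹ * g⁻¹)⁻¹ := by
              rw [mul_assoc, ← Subgroup.mem_center_iff.1 (inv_mem (ha g)) a, inv_mul_cancel_left]
        rw [h1]
        exact inv_mem (ha g) }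
  have hZ2ch : ∀ φ : G ≃* G, ∀ a ∈ Z2, φ a ∈ Z2 := by
    intro φ a ha g
    obtain ⟨g', rfl⟩ := φ.surjective g
    rw [← map_inv, ← map_inv, ← map_mul, ← map_mul, ← map_mul]
    exact Subgroup.mem_center_iff.2 fun x => by
      obtain ⟨x', rfl⟩ := φ.surjective x
      rw [← map_mul, ← map_mul, Subgroup.mem_center_iff.1 (ha g') x']
  -- `Z₂` centralises the derived subgroup
  have hkill : ∀ a ∈ Z2, ∀ d ∈ commutator G, a * d = d * a := by
    intro a ha d hd
    let φ : G →* Subgroup.center G :=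
      { toFun := fun g => ⟨a * g * a⁻¹ * g⁻¹, ha g⟩
        map_one' := Subtype.ext (by simp)
        map_mul' := fun g h => Subtype.ext (by
          show a * (g * h) * a⁻¹ * (g * h)⁻¹ = (a * g * a⁻¹ * g⁻¹) * (a * h * a⁻¹ * h⁻¹)
          have hc := Subgroup.mem_center_iff.1 (ha h)
          calc a * (g * h) * a⁻¹ * (g * h)⁻¹ = a * g * a⁻¹ * (a * h * a⁻¹ * h⁻¹) * g⁻¹ := by group
            _ = a * g * a⁻¹ * (g⁻¹ * (a * h * a⁻¹ * h⁻¹)) := by rw [mul_assoc, hc g⁻¹]
            _ = _ := by group) }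
    have hker : commutator G ≤ φ.ker := Subgroup.commutator_le.2 fun x _ y _ => by
      rw [MonoidHom.mem_ker, commutatorElement_def, map_mul, map_mul, map_mul, map_inv, map_inv]
      exact Subtype.ext (by
        show (φ x : G) * φ y * (φ x : G)⁻¹ * (φ y : G)⁻¹ = 1
        rw [show (φ x : G) * φ y = φ y * φ x from Subgroup.mem_center_iff.1 (φ y).2 _]
        group)
    have h1 := congrArg Subtype.val (MonoidHom.mem_ker.1 (hker hd))
    change a * d * a⁻¹ * d⁻¹ = 1 at h1
    rwa [mul_inv_eq_one, mul_inv_eq_iff_eq_mul] at h1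
  let A : Subgroup G := Z2 ⊓ commutator G
  have hAch : A.Characteristic := Subgroup.characteristic_iff_map_le.2 fun φ => by
    rintro _ ⟨a, ⟨ha1, ha2⟩, rfl⟩
    exact ⟨hZ2ch φ a ha1, Subgroup.characteristic_iff_map_le.1 inferInstance φ ⟨a, ha2, rfl⟩⟩
  have hAc : IsMulCommutative A := ⟨⟨fun x y => Subtype.ext (hkill x x.2.1 y y.2.2)⟩⟩
  have : IsCyclic A := hch A hAch hAc
  -- a commutator in `Z₂` outside the centre
  obtain ⟨d, hd, hdZ⟩ : ∃ d ∈ A, d ∉ Z := by
    let π := QuotientGroup.mk' Z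
    have hne : (commutator G).map π ≠ ⊥ := fun h => hnot fun x hx => by
      have : π x ∈ (⊥ : Subgroup (G ⧸ Z)) := h ▸ Subgroup.mem_map_of_mem _ hx
      exact (QuotientGroup.eq_one_iff x).1 (Subgroup.mem_bot.1 this)
    have : ((commutator G).map π).Normal := Subgroup.Normal.map inferInstance π (QuotientGroup.mk'_surjective Z)
    have : Nontrivial ↥((commutator G).map π) := (Subgroup.nontrivial_iff_ne_bot _).2 hne
    obtain ⟨⟨y, hy⟩, hy1'⟩ := Subgroup.ne_bot_iff_exists_ne_one.1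
      (PGroup.inf_center_ne_bot (hG.to_quotient Z) ((commutator G).map π) hne)
    have hy1 : y ≠ 1 := fun h => hy1' (Subtype.ext h)
    obtain ⟨⟨d, hd, hdy⟩, hyc⟩ := hy
    refine ⟨d, ⟨fun g => ?_, hd⟩, fun hdZ => hy1 (by rw [← hdy]; exact (QuotientGroup.eq_one_iff d).2 hdZ)⟩
    rw [← QuotientGroup.eq_one_iff]
    show π (d * g * d⁻¹ * g⁻¹) = 1
    rw [map_mul, map_mul, map_mul, map_inv, map_inv, hdy, ← Subgroup.mem_center_iff.1 hyc (π g)]
    group
  have hAn : A ⊓ Z ≠ ⊥ := by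
    have hnA : A ≠ ⊥ := fun h => hdZ (by
      rw [h] at hd
      rw [Subgroup.mem_bot.1 hd]
      exact one_mem _)
    exact PGroup.inf_center_ne_bot hG A hnA
  obtain ⟨⟨z, hz⟩, hz1⟩ := Subgroup.ne_bot_iff_exists_ne_one.1 hAn
  obtain ⟨g, hg⟩ := IsCyclic.exists_generator (α := A)
  have hAcard : Nat.card A ∣ r := by
    rw [← orderOf_eq_card_of_forall_mem_zpowers hg]
    exact orderOf_dvd_of_pow_eq_one (Subtype.ext (by rw [SubgroupClass.coe_pow, hexp]; rfl))
  rcases (Nat.dvd_prime hr).1 hAcard with h1 | hAr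
  · have := (Nat.card_eq_one_iff_unique.1 h1).1
    exact hz1 (Subtype.ext (congrArg (fun x : A => (x : G)) (Subsingleton.elim (⟨z, hz.1⟩ : A) 1)))
  have hz' : (⟨z, hz.1⟩ : A) ≠ 1 := fun h => hz1 (Subtype.ext (congrArg (fun x : A => (x : G)) h))
  have hmem : (⟨d, hd⟩ : A) ∈ Subgroup.zpowers (⟨z, hz.1⟩ : A) :=
    mem_zpowers_of_prime_card hAr hz'
  obtain ⟨k, hk⟩ := Subgroup.mem_zpowers_iff.1 hmem
  refine hdZ ?_
  rw [show d = z ^ k from (congrArg Subtype.val hk).symm]
  exact Z.zpow_mem hz.2 k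

variable {ι : Type} [Fintype ι] [DecidableEq ι] {F : Type*} [Field F]

/-- Commutators in an absolutely irreducible group of symplectic type are scalars. -/
theorem commutator_mem_scalars [Fintype F] [Nonempty ι] {r : ℕ} {R : Subgroup (GL ι F)}
    (hR : Geo.IsSymplecticTypeGroup r R) (habs : AbsIrr R)
    (hz : r = 2 → 2 ∣ Nat.card (Subgroup.center R)) :
    ∀ x ∈ R, ∀ y ∈ R, x * y * x⁻¹ * y⁻¹ ∈ Geo.scalars ι F := by
  have hcen : ∀ x : R, x ∈ Subgroup.center R → (x : GL ι F) ∈ Geo.scalars ι F := fun x hx =>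
    habs.scalar_of_comm fun y hy => (congrArg Subtype.val (Subgroup.mem_center_iff.1 hx ⟨y, hy⟩)).symm
  by_cases h2 : r = 2
  · subst h2
    have h4 : ∀ x : R, x ^ 4 = 1 := fun x => by
      have h := Monoid.pow_exponent_eq_one x
      rwa [hR.exponent_eq] at h
    obtain ⟨z, hz'⟩ := exists_prime_orderOf_dvd_card' (G := Subgroup.center R) 2 (hz rfl)
    have hz2 : (z : R) * z = 1 := by
      have h := pow_orderOf_eq_one z
      rw [hz', pow_two] at h
      exact congrArg Subtype.val h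
    have hz1 : (z : R) ≠ 1 := fun h => by
      rw [show z = 1 from Subtype.ext h, orderOf_one] at hz'
      omega
    have hcomm := (TI.commutator_and_square_mem ⟨hR.pGroup, hR.cyclic_of_characteristic⟩ h4 z.2 hz2 hz1).1
    intro x hx y hy
    rcases hcomm ⟨x, hx⟩ ⟨y, hy⟩ with h | h
    · rw [show x * y * x⁻¹ * y⁻¹ = 1 from congrArg Subtype.val h]; exact one_mem _
    · rw [show x * y * x⁻¹ * y⁻¹ = ((z : R) : GL ι F) from congrArg Subtype.val h]; exact hcen _ z.2
  · have hexp : ∀ x : R, x ^ r = 1 := fun x => by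
      have h := Monoid.pow_exponent_eq_one x
      rwa [hR.exponent_eq, (Nat.coprime_primes Nat.prime_two hR.prime).2 (Ne.symm h2), mul_one] at h
    intro x hx y hy
    let x' : R := ⟨x, hx⟩
    let y' : R := ⟨y, hy⟩
    have h1 : x' * y' * x'⁻¹ * y'⁻¹ ∈ commutator R :=
      Subgroup.commutator_mem_commutator (Subgroup.mem_top x') (Subgroup.mem_top y')
    exact hcen _ (commutator_le_center hR.prime hexp hR.cyclic_of_characteristic h1)

/-- An element fixing a hyperplane and normalising an absolutely irreducible group with scalar commutators is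
trivial. -/
theorem eq_one_of_normalizer [Nonempty ι] (hι : 5 ≤ Fintype.card ι) {R : Subgroup (GL ι F)} (hR : AbsIrr R)
    (hcl : ∀ x ∈ R, ∀ y ∈ R, x * y * x⁻¹ * y⁻¹ ∈ Geo.scalars ι F) {g : GL ι F}
    (hg : g ∈ Geo.subgroupNormalizer R) (hfix : FixesHyperplane g) : g = 1 := by
  by_contra hne
  obtain ⟨x, hx, hgx⟩ : ∃ x ∈ R, g * x ≠ x * g := by
    by_contra hcon
    push Not at hcon
    obtain ⟨c, hc⟩ := (Geo.mem_scalars_iff g).1 (hR.scalar_of_comm hcon)
    exact hne (eq_one_of_scalar (by omega) hfix hc)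
  obtain ⟨W, hW, hWfix⟩ := hfix
  set c := g * x * g⁻¹ * x⁻¹ with hc
  have hcR : c ∈ R := R.mul_mem ((Subgroup.mem_normalizer_iff.1 hg x).1 hx) (R.inv_mem hx)
  have hc1 : c ≠ 1 := fun h => hgx (by rwa [hc, mul_inv_eq_one, mul_inv_eq_iff_eq_mul] at h)
  let U : Submodule F (ι → F) := W ⊓ translate x W
  have hU : Fintype.card ι ≤ Module.finrank F U + 2 := by
    have h1 := Submodule.finrank_sup_add_finrank_inf_eq W (translate x W)
    rw [finrank_translate] at h1
    have h2 := Submodule.finrank_le (W ⊔ translate x W)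
    rw [Module.finrank_fintype_fun_eq_card] at h2
    show _ ≤ Module.finrank F ↥(W ⊓ translate x W) + 2
    omega
  have hg' : ∀ w ∈ W, ((g⁻¹ : GL ι F) : Matrix ι ι F) *ᵥ w = w := fun w hw => by
    conv_lhs => rw [← hWfix w hw]
    exact inv_mulVec g w
  have hfix : ∀ u ∈ U, (c : Matrix ι ι F) *ᵥ u = u := by
    rintro u ⟨hu, hu'⟩
    obtain ⟨w, hw, rfl⟩ := mem_translate.1 hu'
    rw [hc, mulVec_mul, mulVec_mul, mulVec_mul, inv_mulVec, hg' w hw, hWfix _ hu]
  by_cases hcs : c ∈ Geo.scalars ι F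
  · obtain ⟨a, ha⟩ := (Geo.mem_scalars_iff c).1 hcs
    obtain ⟨u, hu, hu0⟩ := (Submodule.ne_bot_iff U).1 fun h => by rw [h, finrank_bot] at hU; omega
    have h1 := hfix u hu
    rw [ha, Matrix.smul_mulVec, Matrix.one_mulVec] at h1
    exact hc1 (Units.ext (by rw [ha, smul_left_injective F hu0 (h1.trans (one_smul F u).symm), one_smul, Units.val_one]))
  · obtain ⟨y, hy, hcy⟩ : ∃ y ∈ R, c * y ≠ y * c := by
      by_contra hcon
      push Not at hcon
      exact hcs (hR.scalar_of_comm hcon)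
    obtain ⟨a, ha⟩ := (Geo.mem_scalars_iff _).1 (hcl c hcR y hy)
    have ha1 : (a : F) ≠ 1 := fun h1 => hcy <| by
      have : c * y * c⁻¹ * y⁻¹ = 1 := Units.ext (by rw [ha, h1, one_smul, Units.val_one])
      rwa [mul_inv_eq_one, mul_inv_eq_iff_eq_mul] at this
    have hdis : U ⊓ translate y U = ⊥ := eq_bot_iff.2 fun u hu => by
      obtain ⟨hu1, hu2⟩ := hu
      obtain ⟨w, hw, rfl⟩ := mem_translate.1 hu2
      have h1 := hfix _ hu1
      have h2 : (c : Matrix ι ι F) * (y : Matrix ι ι F) = (a : F) • ((y : Matrix ι ι F) * (c : Matrix ι ι F)) := by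
        rw [← Units.val_mul, ← Units.val_mul, show c * y = c * y * c⁻¹ * y⁻¹ * (y * c) by group, Units.val_mul,
          ha, smul_mul_assoc, one_mul]
      rw [Matrix.mulVec_mulVec, h2, Matrix.smul_mulVec, ← Matrix.mulVec_mulVec, hfix w hw] at h1
      rw [Submodule.mem_bot]
      by_contra hne'
      exact ha1 (smul_left_injective F hne' (h1.trans (one_smul F _).symm))
    have h3 := Submodule.finrank_sup_add_finrank_inf_eq U (translate y U)
    rw [hdis, finrank_bot, add_zero, finrank_translate] at h3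
    have h4 := Submodule.finrank_le (U ⊔ translate y U)
    rw [Module.finrank_fintype_fun_eq_card] at h4
    omega

theorem not_le_normalizer [Fintype F] {q : ℕ} {σ : F ≃+* F} {f : (ι → F) → (ι → F) → F} (h : Herm q σ f)
    {b : Module.Basis ι F (ι → F)} (hb : Orthonormal f b) (hι : 5 ≤ Fintype.card ι) {R : Subgroup (GL ι F)}
    (hR : AbsIrr R) (hcl : ∀ x ∈ R, ∀ y ∈ R, x * y * x⁻¹ * y⁻¹ ∈ Geo.scalars ι F) :
    ¬ unitarySL f ≤ Geo.subgroupNormalizer R := by
  intro hle
  haveI : Nonempty ι := Fintype.card_pos_iff.1 (by omega)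
  obtain ⟨g, hg, hg1, hfix⟩ := exists_transvection_ne_one h hb (by omega)
  exact hg1 (eq_one_of_normalizer hι hR hcl (hle hg) hfix)

end Cfsg.Agent.Aschbacher.SUExplicit
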