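import Cfsg.Agent.Lib.Aschbacher.SUExplicit.Binary
import Cfsg.Agent.Lib.Aschbacher.SUExplicit.SymplType

/-!
The maximal subgroups of the special unitary groups in dimensions six to fifteen, with the numerical
conditions.
-/

set_option autoImplicit false

namespace Cfsg.Agent.Aschbacher.SUExplicit

open Matrix
open scoped MatrixGroups

variable {n : ℕ} {F : Type*} [Field F] [Fintype F] {q : ℕ} {H : Subgroup (GL (Fin n) F)}

/-- The special unitary group of the standard form. -/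
abbrev suGL (n : ℕ) (F : Type*) [Field F] (q : ℕ) : Subgroup (GL (Fin n) F) :=
  GU n F q ⊓ Geo.specialLinear (Fin n) F

/-- The possible maximal subgroups, each given with the equation. -/
inductive SUCase (q : ℕ) (H : Subgroup (GL (Fin n) F)) : Prop
  | totallySingular (W : Submodule F (Fin n → F)) (h0 : W ≠ ⊥) (hts : Geo.IsTotallySingularFor (hermForm n F q) W)
      (heq : H = Geo.subspaceStabilizer W ⊓ suGL n F q)
  | nondegenerate (W : Submodule F (Fin n → F)) (h0 : W ≠ ⊥) (hnd : Geo.IsNondegenerateOn (hermForm n F q) W)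
      (hdim : 2 * Module.finrank F W < n) (heq : H = Geo.subspaceStabilizer W ⊓ suGL n F q)
  | decomposition (t k : ℕ) (D : Fin t → Submodule F (Fin n → F))
      (hD : Geo.IsNondegenerateMDecomposition (hermForm n F q) k D) (ht : 2 ≤ t) (hk : 0 < k) (htk : n = t * k)
      (hq : k = 2 → 3 ≤ q) (heq : H = Geo.decompositionStabilizer D ⊓ suGL n F q)
  | pair (k : ℕ) (D : Fin 2 → Submodule F (Fin n → F)) (hk : 2 * k = n) (hD : Geo.IsMDecomposition k D)
      (hts : ∀ i, Geo.IsTotallySingularFor (hermForm n F q) (D i))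
      (heq : H = Geo.decompositionStabilizer D ⊓ suGL n F q)
  | field (r : ℕ) (K : Subalgebra F (Matrix (Fin n) (Fin n) F)) (hr : r.Prime) (hodd : Odd r) (hdvd : r ∣ n)
      (hK : Geo.IsFieldSubalgebra r K) (hcl : Geo.IsAdjointClosedFor (hermForm n F q) K)
      (heq : H = Geo.subalgebraNormalizer K ⊓ suGL n F q)
  | tensor (n₁ n₂ : ℕ) (e : Fin n ≃ Fin n₁ × Fin n₂) (P : GL (Fin n) F) (f₁ : (Fin n₁ → F) → (Fin n₁ → F) → F)
      (f₂ : (Fin n₂ → F) → (Fin n₂ → F) → F) (h2 : 2 ≤ n₁) (hlt : n₁ < n₂) (hmul : n = n₁ * n₂)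
      (hq : n₁ = 2 → 3 ≤ q) (hf₁ : Geo.IsUnitaryFormPow q f₁) (hf₂ : Geo.IsUnitaryFormPow q f₂)
      (hstr : Geo.IsTensorFormStructure (fun x : F => x ^ q) (hermForm n F q) f₁ f₂ e P)
      (heq : H = Geo.tensorProductSubgroup n₁ n₂ e P ⊓ suGL n F q)
  | subfield (F₀ : Subfield F) (r : ℕ) (P : GL (Fin n) F) (hr : r.Prime) (hodd : Odd r)
      (hcard : Fintype.card F = Nat.card F₀ ^ r) (hrat : Geo.IsFormRationalStructure (hermForm n F q) F₀ 1 P)
      (heq : H = Geo.subfieldSubgroup F₀ P ⊓ suGL n F q)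
  | subfieldOrth (F₀ : Subfield F) (P : GL (Fin n) F) (hodd : Odd q) (hcard : Fintype.card F = Nat.card F₀ ^ 2)
      (hrat : Geo.IsFormRationalStructure (hermForm n F q) F₀ 1 P)
      (heq : H = Geo.subfieldSubgroup F₀ P ⊓ suGL n F q)
  | subfieldSymp (F₀ : Subfield F) (P : GL (Fin n) F) (ζ : F) (heven : Even n)
      (hcard : Fintype.card F = Nat.card F₀ ^ 2) (hζ : ζ ≠ 0) (hζσ : ζ + ζ ^ q = 0)
      (hrat : Geo.IsFormRationalStructure (hermForm n F q) F₀ ζ P)
      (halt : ∀ u : Fin n → F, (∀ i, u i ∈ F₀) →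
        hermForm n F q ((P : Matrix (Fin n) (Fin n) F) *ᵥ u) ((P : Matrix (Fin n) (Fin n) F) *ᵥ u) = 0)
      (heq : H = Geo.subfieldSubgroup F₀ P ⊓ suGL n F q)
  | symplecticType (r k : ℕ) (R : Subgroup (GL (Fin n) F)) (hdim : n = r ^ k) (hr : r.Prime)
      (hR : Geo.IsSymplecticTypeGroup r R) (habs : Geo.ActsAbsolutelyIrreducibly (Geo.matrixSet R))
      (hsim : R ≤ Geo.similarityGroup (hermForm n F q))
      (h2 : r = 2 → ∃ p : ℕ, p.Prime ∧ q = p ∧ p % 4 = 3 ∧ Nat.card (Subgroup.center R) = 4 ∧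
        Nat.card R = 2 ^ (2 + 2 * k))
      (h3 : r = 3 → ∃ p : ℕ, p.Prime ∧ q = p ∧ p % 3 = 2 ∧ Nat.card (Subgroup.center R) = 3 ∧
        Nat.card R = 3 ^ (1 + 2 * k))
      (heq : H = Geo.subgroupNormalizer R ⊓ suGL n F q)
  | tensorSquare (e : Fin n ≃ (Fin 2 → Fin 3)) (P : GL (Fin n) F) (f₁ : (Fin 3 → F) → (Fin 3 → F) → F)
      (hq : 3 ≤ q) (hf₁ : Geo.IsUnitaryFormPow q f₁)
      (hstr : Geo.IsTensorPowerFormStructure (fun x : F => x ^ q) (hermForm n F q) f₁ e P)
      (heq : H = Geo.tensorWreathSubgroup 3 2 e P ⊓ suGL n F q)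
  | residual (hres : Geo.InUnitaryResidualClass H)

theorem eq_inf_suGL {A : Subgroup (GL (Fin n) F)} (hH : Geo.IsMaximalIn (suGL n F q) H)
    (hle : H ≤ A) (hn : ¬ suGL n F q ≤ A) : H = A ⊓ suGL n F q :=
  eq_inf_of_maximal hH hle hn

/-- The order of the field of a class-six group. -/
theorem symplecticType_field (hF : Fintype.card F = q ^ 2) {r z p e : ℕ} (hr : r.Prime) (hrp : r ≠ p)
    (hmin : Geo.IsMinimalFieldFor z p e F) :
    (r = 2 → e = 2 → z = 4 → p.Prime ∧ q = p ∧ p % 4 = 3) ∧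
    (r = 3 → z = 3 → p.Prime ∧ q = p ∧ p % 3 = 2) := by
  obtain ⟨hp, -, hcard, hdvd, hmin⟩ := hmin
  have hq := hF.symm.trans hcard
  refine ⟨fun _ he hz => ?_, fun h3 hz => ?_⟩
  · subst he
    subst hz
    have hqp : q = p := Nat.pow_left_injective two_ne_zero hq
    have h1 : ¬ 4 ∣ p ^ 1 - 1 := hmin 1 one_pos one_lt_two
    rw [pow_one] at h1
    have := hp.two_le
    have hpodd : p % 2 = 1 := by
      rcases hp.eq_two_or_odd with h | h
      · subst h; norm_num at hdvd
      · exact h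
    exact ⟨hp, hqp, by omega⟩
  · subst hz
    have hcop : Nat.Coprime p 3 :=
      (Nat.coprime_primes hp Nat.prime_three).2 fun h => hrp (h3.trans h.symm)
    have h4 := Nat.ModEq.pow_totient hcop
    rw [Nat.totient_prime Nat.prime_three] at h4
    have hd2 : 3 ∣ p ^ 2 - 1 := (Nat.modEq_iff_dvd' (Nat.one_le_pow _ _ hp.pos)).1 h4.symm
    have he2 : e ≤ 2 := by
      by_contra hlt
      exact hmin 2 two_pos (by omega) hd2
    obtain ⟨j, -, hj⟩ := (Nat.dvd_prime_pow hp).1 (show q ∣ p ^ e from hq ▸ dvd_pow_self q two_ne_zero)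
    have hje : j * 2 = e := Nat.pow_right_injective hp.two_le (by
      show p ^ (j * 2) = p ^ e
      rw [pow_mul, ← hj, hq])
    have hj1 : j = 1 := by
      by_contra hne
      have : j = 0 := by omega
      have h1q := one_lt_q hF
      rw [hj, this, pow_zero] at h1q
      omega
    subst hj1
    rw [pow_one] at hj
    have h1 : ¬ 3 ∣ p ^ 1 - 1 := hmin 1 one_pos (by omega)
    rw [pow_one] at h1
    have := hp.two_le
    have : p % 3 ≠ 0 := fun h0 =>
      hrp (h3.trans ((Nat.prime_dvd_prime_iff_eq Nat.prime_three hp).1 (Nat.dvd_of_mod_eq_zero h0)))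
    exact ⟨hp, hj, by omega⟩

/-- The standard form is Hermitian with an orthonormal basis. -/
theorem standard_herm (n : ℕ) (hF : Fintype.card F = q ^ 2) :
    ∃ σ : F ≃+* F, Herm q σ (hermForm n F q) ∧ Orthonormal (hermForm n F q) (Pi.basisFun F (Fin n)) := by
  obtain ⟨τ, hτ, hU⟩ := MaxCl.Unit.hermForm_isUnitary (F := F) n q hF
  have hq0 : q ≠ 0 := by have := one_lt_q hF; omega
  refine ⟨τ, ⟨hF, hτ, hU⟩, fun i j => ?_⟩
  simp [hermForm, Pi.basisFun_apply, Pi.single_apply, ite_pow, zero_pow hq0, eq_comm]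

/-- The maximal subgroups of a special unitary group in dimension six to fifteen. -/
theorem su_maximal_cases (hF : Fintype.card F = q ^ 2) (h6 : 6 ≤ n) (h15 : n ≤ 15)
    (hH : Geo.IsMaximalIn (suGL n F q) H)
    (hout : (∃ M, Geo.InUnitaryClass n F q M ∧ H ≤ M) ∨ Geo.InUnitaryResidualClass H) :
    SUCase q H := by
  classical
  obtain ⟨σ, h, hb⟩ := standard_herm (F := F) n hF
  set f := hermForm n F q
  have hn : Fintype.card (Fin n) = n := Fintype.card_fin n
  haveI : Nonempty (Fin n) := ⟨⟨0, by omega⟩⟩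
  have hdec : ∀ (t k : ℕ) (D : Fin t → Submodule F (Fin n → F)), Geo.IsNondegenerateMDecomposition f k D →
      (k = 2 → 3 ≤ q) → H ≤ Geo.decompositionStabilizer D → SUCase q H := by
    intro t k D hD hq hle
    refine .decomposition t k D hD hD.decomp.two_le hD.decomp.pos
      (by rw [← card_eq_of_isMDecomposition hD.decomp, hn]) hq (eq_inf_suGL hH hle ?_)
    rcases Nat.lt_or_ge k 2 with hk | hk
    · obtain rfl : k = 1 := by have := hD.decomp.pos; omega
      exact not_le_frame h hb (by omega) hD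
    · exact not_le_decomposition h hb (by omega) hD.decomp hk
  rcases hout with ⟨M, hM, hle⟩ | hres
  swap
  · exact .residual hres
  rcases hM with hM | ⟨r, K, hr, hodd, hK, hcl, rfl⟩ | ⟨n₁, n₂, e, P, f₁, f₂, h2, hlt, hf₁, hf₂, hstr, rfl⟩ |
      ⟨k, t, e, P, f₁, hk, ht, hex, hf₁, hstr, rfl⟩
  rotate_left
  · exact .field r K hr hodd (by simpa using dvd_card_of_isFieldSubalgebra hK) hK hcl
      (eq_inf_suGL hH (hle.trans inf_le_left)
        (h.specialUnitary_not_le_subalgebraNormalizer hb (by omega) hr.two_le hK))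
  · have hmul : n = n₁ * n₂ := by simpa using Fintype.card_congr e
    by_cases hq : n₁ = 2 ∧ q = 2
    · obtain ⟨rfl, hq2⟩ := hq
      obtain ⟨D, hD, hsub⟩ := exists_pair_of_tensor_two h hq2 (by omega) hf₁ hf₂ hstr
      exact hdec 2 n₂ D hD (fun h0 => by omega)
        ((le_inf (hle.trans inf_le_left) (hle.trans inf_le_right)).trans hsub)
    exact .tensor n₁ n₂ e P f₁ f₂ h2 hlt hmul (fun h0 => by
        have : q ≠ 2 := fun h1 => hq ⟨h0, h1⟩
        have := one_lt_q hF
        omega) hf₁ hf₂ hstr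
      (eq_inf_suGL hH (hle.trans inf_le_left) (not_le_tensorProductSubgroup h hb h2 (by omega) e P))
  · obtain ⟨rfl, rfl⟩ : k = 3 ∧ t = 2 := by
      have hkt : n = k ^ t := by simpa using Fintype.card_congr e
      have hk3 : k ≤ 3 := by
        by_contra hlt
        have h1 : 4 ^ 2 ≤ k ^ t :=
          le_trans (Nat.pow_le_pow_left (show 4 ≤ k by omega) 2) (Nat.pow_le_pow_right (by omega) ht)
        omega
      refine ⟨by omega, ?_⟩
      by_contra hne
      have h1 : 3 ^ 3 ≤ k ^ t :=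
        le_trans (Nat.pow_le_pow_left hk 3) (Nat.pow_le_pow_right (by omega) (show 3 ≤ t by omega))
      omega
    have hq3 : 3 ≤ q := by
      have h1q := one_lt_q hF
      have : q ≠ 2 := fun h1 => hex ⟨h1, rfl⟩
      omega
    exact .tensorSquare e P f₁ hq3 hf₁ hstr
      (eq_inf_suGL hH (hle.trans inf_le_left) (not_le_tensorSquare h hb (by omega) e P))
  rcases hM with ⟨W, h0, hts, rfl⟩ | ⟨W, h0, hnd, hdim, rfl⟩ | ⟨t, k, D, hD, rfl⟩ | ⟨k, D, hk, hD, hts, rfl⟩ |
      ⟨F₀, r, P, hr, hodd, hcard, hrat, rfl⟩ | ⟨F₀, P, hodd, hcard, hrat, rfl⟩ |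
      ⟨F₀, P, ζ, heven, hcard, hζ, hζσ, hrat, halt, rfl⟩ | ⟨r, R, p, e, k, hR, habs, hsim, hrp, hmin, hcase, rfl⟩
  · refine .totallySingular W h0 hts (eq_inf_suGL hH (hle.trans inf_le_left)
      (h.specialUnitary_not_le_subspaceStabilizer hb (by omega) h0 fun htop => ?_))
    obtain ⟨x, hx⟩ := (h.form.nondegenerate (Pi.single ⟨0, by omega⟩ 1) (by simp)).2
    exact hx (hts _ (htop ▸ Submodule.mem_top) x (htop ▸ Submodule.mem_top))
  · refine .nondegenerate W h0 hnd hdim (eq_inf_suGL hH (hle.trans inf_le_left)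
      (h.specialUnitary_not_le_subspaceStabilizer hb (by omega) h0 fun htop => ?_))
    rw [htop, finrank_top, Module.finrank_fintype_fun_eq_card, hn] at hdim
    omega
  · by_cases hq : k = 2 ∧ q = 2
    · obtain ⟨rfl, hq2⟩ := hq
      obtain ⟨D', hD', hsub⟩ := exists_frame_of_planes h hq2 hD
      exact hdec _ 1 D' hD' (fun h0 => by omega)
        ((le_inf (hle.trans inf_le_left) (hle.trans inf_le_right)).trans hsub)
    exact hdec t k D hD (fun h0 => by
      have : q ≠ 2 := fun h1 => hq ⟨h0, h1⟩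
      have := one_lt_q hF
      omega) (hle.trans inf_le_left)
  · exact .pair k D hk hD hts (eq_inf_suGL hH (hle.trans inf_le_left)
      (not_le_decomposition h hb (by omega) hD (by omega)))
  · exact .subfield F₀ r P hr hodd hcard hrat (eq_inf_suGL hH (hle.trans inf_le_left)
      (h.specialUnitary_not_le_subfieldSubgroup hb (by omega) hr hcard P))
  · exact .subfieldOrth F₀ P hodd hcard hrat (eq_inf_suGL hH (hle.trans inf_le_left)
      (h.specialUnitary_not_le_subfieldSubgroup hb (by omega) Nat.prime_two hcard P))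
  · exact .subfieldSymp F₀ P ζ heven hcard hζ hζσ hrat halt (eq_inf_suGL hH (hle.trans inf_le_left)
      (h.specialUnitary_not_le_subfieldSubgroup hb (by omega) Nat.prime_two hcard P))
  have hcl := commutator_mem_scalars hR habs (fun h2 => by
    rcases hcase with ⟨hodd, -⟩ | ⟨-, -, hz, -⟩
    · exact absurd hodd (by rw [h2]; decide)
    · rw [hz]; norm_num)
  have ht : ∀ x ∈ R, x ∉ Geo.scalars (Fin n) F → (x : Matrix (Fin n) (Fin n) F).trace = 0 := by
    intro x hx hxs
    by_contra h0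
    refine hxs (AbsIrr.scalar_of_comm habs fun y hy => ?_)
    obtain ⟨c, hc⟩ := (Geo.mem_scalars_iff _).1 (hcl y hy x hx)
    have h2 : ((y * x * y⁻¹ : GL (Fin n) F) : Matrix (Fin n) (Fin n) F).trace =
        (x : Matrix (Fin n) (Fin n) F).trace := by
      rw [Units.val_mul, Units.val_mul, Matrix.trace_units_conj]
    rw [show y * x * y⁻¹ = y * x * y⁻¹ * x⁻¹ * x by group, Units.val_mul, hc, smul_mul_assoc, one_mul,
      Matrix.trace_smul, smul_eq_mul, mul_left_eq_self₀] at h2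
    have h3 : y * x * y⁻¹ * x⁻¹ = 1 := Units.ext (by rw [hc, h2.resolve_right h0]; simp)
    rw [mul_inv_eq_one, mul_inv_eq_iff_eq_mul] at h3
    exact h3.symm
  have hcardR := (card_of_traceless habs ht).2
  rw [hn, ← SpExplicit.card_center_eq habs] at hcardR
  have hpr := hR.prime
  have hdim : n = r ^ k := by
    rcases hcase with ⟨-, hz, -, hRc⟩ | ⟨h2, -, hz, hRc⟩
    · rw [hRc, hz, pow_add, pow_one, mul_comm (n ^ 2), mul_comm 2 k, pow_mul] at hcardR
      exact (Nat.pow_left_injective two_ne_zero (Nat.eq_of_mul_eq_mul_left hpr.pos hcardR)).symm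
    · rw [hRc, hz, pow_add, mul_comm (n ^ 2), mul_comm 2 k, pow_mul 2 k 2] at hcardR
      rw [h2]
      exact (Nat.pow_left_injective two_ne_zero (Nat.eq_of_mul_eq_mul_left (by norm_num) hcardR)).symm
  obtain ⟨hfield2, hfield3⟩ := symplecticType_field hF hpr hrp hmin
  refine .symplecticType r k R hdim hpr hR habs hsim (fun h2 => ?_) (fun h3 => ?_)
    (eq_inf_suGL hH (hle.trans inf_le_left) (not_le_normalizer h hb (by omega) habs hcl))
  · rcases hcase with ⟨hodd, -⟩ | ⟨-, he, hz, hRc⟩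
    · exact absurd hodd (by rw [h2]; decide)
    · obtain ⟨hp, hqp, hp4⟩ := hfield2 h2 he hz
      exact ⟨p, hp, hqp, hp4, hz, hRc⟩
  · rcases hcase with ⟨-, hz, -, hRc⟩ | ⟨h2, -⟩
    · obtain ⟨hp, hqp, hp3⟩ := hfield3 h3 (hz.trans h3)
      exact ⟨p, hp, hqp, hp3, hz.trans h3, by rw [hRc, h3]⟩
    · exact absurd (h2.symm.trans h3) (by decide)

end Cfsg.Agent.Aschbacher.SUExplicit
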