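import Cfsg.Agent.Lib.Aschbacher.UnitarySubfield
import Cfsg.Agent.Lib.Aschbacher.SpExplicit.WreathNonContain
import Cfsg.Agent.Lib.Aschbacher.SpExplicit.TensorCommon
import Cfsg.Agent.Lib.MaxCl.UnitaryGen

/-!
Transvections lie in no stabiliser of a tensor decomposition, and the special unitary group lies in no
stabiliser of a decomposition.
-/

set_option autoImplicit false

namespace Cfsg.Agent.Aschbacher.SUExplicit

open Matrix
open scoped MatrixGroups Kronecker

variable {ι : Type} [Fintype ι] [DecidableEq ι] {F : Type*} [Field F]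

/-- `g` fixes a hyperplane pointwise. -/
def FixesHyperplane (g : GL ι F) : Prop :=
  ∃ W : Submodule F (ι → F), Fintype.card ι ≤ Module.finrank F W + 1 ∧
    ∀ v ∈ W, (g : Matrix ι ι F) *ᵥ v = v

/-- The preimage of the hyperplane under an injective linear map is small only if the source is. -/
theorem exists_indep_preimage {V : Type*} [AddCommGroup V] [Module F V] [Module.Finite F V]
    {W : Submodule F (ι → F)} (hW : Fintype.card ι ≤ Module.finrank F W + 1) (L : V →ₗ[F] (ι → F))
    (hV : 2 ≤ Module.finrank F V) :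
    ∃ y : V, y ≠ 0 ∧ L y ∈ W ∧ (3 ≤ Module.finrank F V → ∃ y' : V, (∀ a : F, y' ≠ a • y) ∧ L y' ∈ W) := by
  let K : Submodule F V := LinearMap.ker (W.mkQ ∘ₗ L)
  have hmem : ∀ {y : V}, y ∈ K → L y ∈ W := fun hy => (Submodule.Quotient.mk_eq_zero W).1 hy
  have hK : Module.finrank F V ≤ Module.finrank F K + 1 := by
    have h1 := LinearMap.finrank_range_add_finrank_ker (W.mkQ ∘ₗ L)
    have h2 := Submodule.finrank_le (LinearMap.range (W.mkQ ∘ₗ L))
    have h3 := W.finrank_quotient_add_finrank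
    rw [Module.finrank_fintype_fun_eq_card] at h3
    show _ ≤ Module.finrank F (LinearMap.ker (W.mkQ ∘ₗ L)) + 1
    omega
  obtain ⟨y, hy, hy0⟩ := (Submodule.ne_bot_iff K).1 fun h => by rw [h, finrank_bot] at hK; omega
  refine ⟨y, hy0, hmem hy, fun h3 => ?_⟩
  obtain ⟨y', hy', hy''⟩ := SetLike.not_le_iff_exists.1 (show ¬ K ≤ Submodule.span F {y} from fun h => by
    have := Submodule.finrank_mono h
    rw [finrank_span_singleton hy0] at this
    omega)
  exact ⟨y', fun a ha => hy'' (Submodule.mem_span_singleton.2 ⟨a, ha.symm⟩), hmem hy'⟩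

theorem eq_one_of_scalar [Nonempty ι] (hι : 2 ≤ Fintype.card ι) {g : GL ι F} (hg : FixesHyperplane g)
    {c : F} (hc : (g : Matrix ι ι F) = c • 1) : g = 1 := by
  obtain ⟨W, hW, hfix⟩ := hg
  obtain ⟨v, hv, hv0⟩ := (Submodule.ne_bot_iff W).1 fun h => by rw [h, finrank_bot] at hW; omega
  have h1 := hfix v hv
  rw [hc, Matrix.smul_mulVec, Matrix.one_mulVec] at h1
  exact Units.ext (by rw [hc, smul_left_injective F hv0 (h1.trans (one_smul F v).symm), one_smul, Units.val_one])

theorem mem_span_of_prod_eq {κ κ' : Type*} {a x : κ → F} {b y : κ' → F} (hb : b ≠ 0)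
    (h : ∀ p q, a p * b q = x p * y q) : a ∈ Submodule.span F {x} := by
  obtain ⟨q, hq⟩ := Function.ne_iff.1 hb
  refine Submodule.mem_span_singleton.2 ⟨y q / b q, funext fun p => ?_⟩
  have hq' : b q ≠ 0 := hq
  simp only [Pi.smul_apply, smul_eq_mul]
  field_simp
  linear_combination -h p q

/-- A tensor product of two matrices fixing a hyperplane is trivial. -/
theorem eq_one_of_tensorProduct {m k : ℕ} (hm : 2 ≤ m) (hk : 2 ≤ k) (e : ι ≃ Fin m × Fin k) (P : GL ι F)
    {g : GL ι F} (hg : g ∈ Geo.tensorProductSubgroup m k e P) (hfix : FixesHyperplane g) : g = 1 := by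
  classical
  haveI : NeZero m := ⟨by omega⟩
  haveI : NeZero k := ⟨by omega⟩
  haveI : Nonempty ι := ⟨e.symm (0, 0)⟩
  have hcard : Fintype.card ι = m * k := by rw [Fintype.card_congr e]; simp
  obtain ⟨a, b, hab⟩ := SpExplicit.exists_factors hg
  obtain ⟨W, hW, hWfix⟩ := hfix
  have hcancel : ∀ {x x' : Fin m → F} {y y' : Fin k → F},
      SpExplicit.pureVec e P x y = SpExplicit.pureVec e P x' y' → ∀ p q, x p * y q = x' p * y' q := by
    intro x x' y y' h p q
    have h1 := congrFun (mulVec_injective P h) (e.symm (p, q))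
    simpa using h1
  let B : (Fin m → F) →ₗ[F] (Fin k → F) →ₗ[F] (ι → F) := LinearMap.mk₂ F (SpExplicit.pureVec e P)
    (fun x x' y => by simp only [SpExplicit.pureVec, ← Matrix.mulVec_add]; congr 1; funext i; simp [add_mul])
    (fun r x y => by simp only [SpExplicit.pureVec, ← Matrix.mulVec_smul]; congr 1; funext i; simp [mul_assoc])
    (fun x y y' => by simp only [SpExplicit.pureVec, ← Matrix.mulVec_add]; congr 1; funext i; simp [mul_add])
    (fun r x y => by simp only [SpExplicit.pureVec, ← Matrix.mulVec_smul]; congr 1; funext i; simp [mul_left_comm])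
  have hb0 : ∀ {y : Fin k → F}, y ≠ 0 → (b : Matrix (Fin k) (Fin k) F) *ᵥ y ≠ 0 := fun hy => mt (Aschbacher.mulVec_eq_zero_iff b).1 hy
  have ha0 : ∀ {x : Fin m → F}, x ≠ 0 → (a : Matrix (Fin m) (Fin m) F) *ᵥ x ≠ 0 := fun hx => mt (Aschbacher.mulVec_eq_zero_iff a).1 hx
  obtain ⟨c, hc⟩ := SpExplicit.scalar_of_eigen (x := (a : Matrix (Fin m) (Fin m) F)) fun x hx => by
    obtain ⟨y, hy, hyW, -⟩ := exists_indep_preimage hW (B x) (by simpa using hk)
    exact mem_span_of_prod_eq (hb0 hy) (hcancel ((hab x y).symm.trans (hWfix _ hyW)))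
  obtain ⟨d, hd⟩ := SpExplicit.scalar_of_eigen (x := (b : Matrix (Fin k) (Fin k) F)) fun y hy => by
    obtain ⟨x, hx, hxW, -⟩ := exists_indep_preimage hW (B.flip y) (by simpa using hm)
    exact mem_span_of_prod_eq (ha0 hx) fun q p => by
      rw [mul_comm, hcancel ((hab x y).symm.trans (hWfix _ hxW)) p q, mul_comm]
  refine eq_one_of_scalar (by rw [hcard]; nlinarith) ⟨W, hW, hWfix⟩ (c := c * d) ?_
  refine Matrix.ext_of_mulVec_single fun i => ?_
  have hi : (Pi.single i 1 : ι → F) = ((P⁻¹ : GL ι F) : Matrix ι ι F) *ᵥ ((P : Matrix ι ι F) *ᵥ Pi.single i 1) :=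
    (inv_mulVec P _).symm
  have hall : ∀ v : ι → F, (g : Matrix ι ι F) *ᵥ v = (c * d) • v := by
    intro v
    have hv : v = ∑ i, (((P⁻¹ : GL ι F) : Matrix ι ι F) *ᵥ v) i •
        SpExplicit.pureVec e P (Pi.single (e i).1 1) (Pi.single (e i).2 1) := by
      simp only [SpExplicit.pureVec, ← Matrix.mulVec_smul, ← Matrix.mulVec_sum]
      conv_lhs => rw [← mulVec_inv P v]
      congr 1
      funext j
      rw [Finset.sum_apply, Finset.sum_eq_single j]
      · simp
      · intro i _ hij
        have hne : e j ≠ e i := fun h => hij (e.injective h).symm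
        by_cases h1 : (e j).1 = (e i).1
        · have h2 : (e j).2 ≠ (e i).2 := fun h2 => hne (Prod.ext h1 h2)
          simp [h2]
        · simp [h1]
      · simp
    rw [hv, Matrix.mulVec_sum, Finset.smul_sum]
    refine Finset.sum_congr rfl fun i _ => ?_
    rw [Matrix.mulVec_smul, hab, hc, hd, Matrix.smul_mulVec, Matrix.smul_mulVec, Matrix.one_mulVec,
      Matrix.one_mulVec, smul_comm (c * d)]
    congr 1
    show B (c • _) (d • _) = (c * d) • B _ _
    simp only [map_smul, LinearMap.smul_apply, smul_smul, mul_comm]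
  rw [hall, Matrix.smul_mulVec, Matrix.one_mulVec]

/-- A member of the wreath subgroup of a tensor square of dimension at least nine fixing a hyperplane is
trivial. -/
theorem eq_one_of_tensorSquare {m : ℕ} (hm : 3 ≤ m) (e : ι ≃ (Fin 2 → Fin m)) (P : GL ι F)
    {g : GL ι F} (hg : g ∈ Geo.tensorWreathSubgroup m 2 e P) (hfix : FixesHyperplane g) : g = 1 := by
  classical
  haveI : NeZero m := ⟨by omega⟩
  haveI : Nonempty ι := ⟨e.symm fun _ => 0⟩
  have hcard : Fintype.card ι = m ^ 2 := by rw [Fintype.card_congr e]; simp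
  obtain ⟨_, ⟨s, hs, rfl⟩, rfl⟩ := hg
  obtain ⟨_, ⟨p, rfl⟩, σ, rfl⟩ := SpExplicit.exists_pure_perm hs
  obtain ⟨W, hW, hWfix⟩ := hfix
  let pv : (Fin m → F) → (Fin m → F) → ι → F :=
    fun x y => (P : Matrix ι ι F) *ᵥ ((fun z : Fin 2 → Fin m => x (z 0) * y (z 1)) ∘ e)
  let B : (Fin m → F) →ₗ[F] (Fin m → F) →ₗ[F] (ι → F) := LinearMap.mk₂ F pv
    (fun x x' y => by simp only [pv, ← Matrix.mulVec_add]; congr 1; funext i; simp [add_mul])
    (fun r x y => by simp only [pv, ← Matrix.mulVec_smul]; congr 1; funext i; simp [mul_assoc])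
    (fun x y y' => by simp only [pv, ← Matrix.mulVec_add]; congr 1; funext i; simp [mul_add])
    (fun r x y => by simp only [pv, ← Matrix.mulVec_smul]; congr 1; funext i; simp [mul_left_comm])
  have hcancel : ∀ {x x' y y' : Fin m → F}, pv x y = pv x' y' → ∀ a b, x a * y b = x' a * y' b := by
    intro x x' y y' h a b
    have h1 := congrFun (mulVec_injective P h) (e.symm ![a, b])
    simpa using h1
  -- the action on pure vectors
  have hperm : σ = 1 ∨ σ = Equiv.swap 0 1 := by clear * - σ; revert σ; decide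
  have hact : ∀ x y : Fin m → F,
      ((coordGL e P (pureGL p * permGL σ) : GL ι F) : Matrix ι ι F) *ᵥ pv x y =
        pv ((p 0 : Matrix (Fin m) (Fin m) F) *ᵥ (![x, y] (σ 0)))
          ((p 1 : Matrix (Fin m) (Fin m) F) *ᵥ (![x, y] (σ 1))) := by
    intro x y
    rw [coordGL_val, coordEquiv_apply, ← Matrix.mulVec_mulVec, ← Matrix.mulVec_mulVec]
    simp only [pv]
    rw [inv_mulVec, Matrix.submatrix_mulVec_equiv, Function.comp_assoc, Equiv.self_comp_symm, Function.comp_id]
    congr 1
    congr 1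
    rw [Units.val_mul, ← Matrix.mulVec_mulVec]
    have hp : ((permGL σ : GL (Fin 2 → Fin m) F) : Matrix (Fin 2 → Fin m) (Fin 2 → Fin m) F) *ᵥ
        (fun z => x (z 0) * y (z 1)) = fun z => x (z (σ 0)) * y (z (σ 1)) := by
      funext z
      simp [permGL, Matrix.mulVec, dotProduct, Function.comp_def]
    rw [hp]
    funext z
    show ∑ w : Fin 2 → Fin m, pureMat _ z w * _ = (∑ w : Fin m, _) * (∑ w : Fin m, _)
    rw [Fintype.sum_mul_sum, ← (finTwoArrowEquiv (Fin m)).symm.sum_comp, Fintype.sum_prod_type]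
    refine Finset.sum_congr rfl fun a _ => Finset.sum_congr rfl fun b _ => ?_
    rw [pureMat_apply, Fin.prod_univ_two]
    rcases hperm with rfl | rfl <;> simp [finTwoArrowEquiv] <;> ring
  have hz : ∀ {x y : Fin m → F}, pv x y ∈ W →
      pv ((p 0 : Matrix (Fin m) (Fin m) F) *ᵥ (![x, y] (σ 0))) ((p 1 : Matrix (Fin m) (Fin m) F) *ᵥ (![x, y] (σ 1))) =
        pv x y := by
    intro x y h
    rw [← hact, coordGL_eq]
    exact hWfix _ h
  have hp0 : ∀ (i : Fin 2) {x : Fin m → F}, x ≠ 0 → (p i : Matrix (Fin m) (Fin m) F) *ᵥ x ≠ 0 :=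
    fun i {x} hx => mt (Aschbacher.mulVec_eq_zero_iff (p i)).1 hx
  rcases hperm with rfl | rfl
  · obtain ⟨c, hc⟩ := SpExplicit.scalar_of_eigen (x := (p 0 : Matrix (Fin m) (Fin m) F)) fun x hx => by
      obtain ⟨y, hy, hyW, -⟩ := exists_indep_preimage hW (B x) (by simp; omega)
      exact mem_span_of_prod_eq (hp0 1 hy) (hcancel (hz hyW))
    obtain ⟨d, hd⟩ := SpExplicit.scalar_of_eigen (x := (p 1 : Matrix (Fin m) (Fin m) F)) fun y hy => by
      obtain ⟨x, hx, hxW, -⟩ := exists_indep_preimage hW (B.flip y) (by simp; omega)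
      exact mem_span_of_prod_eq (hp0 0 hx) fun b a => by
        rw [mul_comm]; exact (hcancel (hz hxW) a b).trans (mul_comm _ _)
    refine eq_one_of_scalar (by rw [hcard]; nlinarith) ⟨W, hW, hWfix⟩ (c := c * d) ?_
    show ((P * Geo.glReindex e.symm (pureGL p * permGL 1) * P⁻¹ : GL ι F) : Matrix ι ι F) = _
    rw [← coordGL_eq, SpExplicit.permGL_one, mul_one, coordGL_val]
    have hfun : (fun i => (p i : Matrix (Fin m) (Fin m) F)) = fun i => ![c, d] i • (1 : Matrix (Fin m) (Fin m) F) := by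
      funext i; fin_cases i <;> simp [hc, hd]
    show coordEquiv e P (pureMat fun i => (p i : Matrix (Fin m) (Fin m) F)) = _
    rw [hfun, pureMat_smul, show (fun _ : Fin 2 => (1 : Matrix (Fin m) (Fin m) F)) = 1 from rfl, map_one,
      map_smul, map_one, Fin.prod_univ_two]
    rfl
  · -- a pure vector `x ⊗ y` is sent to `Ay ⊗ Bx`
    exfalso
    let one : Fin m := ⟨1, by omega⟩
    obtain ⟨y, hy, hyW, h⟩ := exists_indep_preimage hW (B (Pi.single 0 1)) (by simp; omega)
    obtain ⟨y', hy', hy'W⟩ := h (by simp; omega)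
    set x : Fin m → F := Pi.single 0 1
    have hx : x ≠ 0 := by simp [x]
    have e1 : (p 0 : Matrix (Fin m) (Fin m) F) *ᵥ y ∈ Submodule.span F {x} := by
      simpa using mem_span_of_prod_eq (hp0 1 hx) (hcancel (hz (x := x) (y := y) hyW))
    have e2 : (p 0 : Matrix (Fin m) (Fin m) F) *ᵥ y' ∈ Submodule.span F {x} := by
      simpa using mem_span_of_prod_eq (hp0 1 hx) (hcancel (hz (x := x) (y := y') hy'W))
    obtain ⟨r, hr⟩ := Submodule.mem_span_singleton.1 e1
    obtain ⟨r', hr'⟩ := Submodule.mem_span_singleton.1 e2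
    have hr0 : r ≠ 0 := fun h0 => hp0 0 hy (by rw [← hr, h0, zero_smul])
    refine hy' (r' / r) (mulVec_injective (p 0) ?_)
    show (p 0 : Matrix (Fin m) (Fin m) F) *ᵥ y' = (p 0 : Matrix (Fin m) (Fin m) F) *ᵥ ((r' / r) • y)
    rw [Matrix.mulVec_smul, ← hr, ← hr', smul_smul, div_mul_cancel₀ _ hr0]

variable [Fintype F] {q : ℕ} {σ : F ≃+* F} {f : (ι → F) → (ι → F) → F}

/-- An element of the special unitary group moving only along one vector. -/
theorem fixesHyperplane_of_shift {g : GL ι F} {v : ι → F} {φ : (ι → F) →ₗ[F] F}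
    (hg : ∀ u, (g : Matrix ι ι F) *ᵥ u = u + φ u • v) : FixesHyperplane g := by
  refine ⟨LinearMap.ker φ, ?_, fun u hu => by rw [hg, LinearMap.mem_ker.1 hu, zero_smul, add_zero]⟩
  have h1 := LinearMap.finrank_range_add_finrank_ker φ
  have h2 := Submodule.finrank_le (LinearMap.range φ)
  rw [Module.finrank_fintype_fun_eq_card] at h1
  rw [Module.finrank_self] at h2
  omega

theorem exists_transvection_ne_one (h : Herm q σ f) {b : Module.Basis ι F (ι → F)} (hb : Orthonormal f b)
    (hι : 2 ≤ Fintype.card ι) : ∃ g ∈ unitarySL f, g ≠ 1 ∧ FixesHyperplane g := by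
  obtain ⟨i, j, hij⟩ := Fintype.exists_pair_of_one_lt_card (show 1 < Fintype.card ι by omega)
  obtain ⟨c, hc0, hc⟩ := h.exists_antifixed
  obtain ⟨a, ha⟩ := h.exists_norm_neg_one
  set v := isoVec b i j a with hv
  have hv0 : v ≠ 0 := fun hv0 => by
    have := congrArg (fun u => b.repr u i) hv0
    simp [v, isoVec, Finsupp.single_apply, hij.symm] at this
  obtain ⟨g, hg, hgu⟩ := h.exists_transvection (h.isoVec_isotropic hb hij ha) hc
  obtain ⟨u, hu⟩ := (h.form.nondegenerate v hv0).1
  refine ⟨g, hg, fun h1 => hv0 ?_, fixesHyperplane_of_shift (v := v)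
    (φ := { toFun := fun u => c * f u v, map_add' := fun x y => by rw [h.sesq.add_left, mul_add]
            map_smul' := fun r x => by rw [h.sesq.smul_left, RingHom.id_apply, smul_eq_mul]; ring }) hgu⟩
  have h2 := hgu u
  rw [h1, Units.val_one, Matrix.one_mulVec, left_eq_add] at h2
  exact (smul_eq_zero.1 h2).resolve_left (mul_ne_zero hc0 hu)

theorem not_le_tensorProductSubgroup (h : Herm q σ f) {b : Module.Basis ι F (ι → F)} (hb : Orthonormal f b)
    {m k : ℕ} (hm : 2 ≤ m) (hk : 2 ≤ k) (e : ι ≃ Fin m × Fin k) (P : GL ι F) :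
    ¬ unitarySL f ≤ Geo.tensorProductSubgroup m k e P := by
  intro hle
  have hι : 2 ≤ Fintype.card ι := by rw [Fintype.card_congr e]; simp; nlinarith
  obtain ⟨g, hg, hg1, hfix⟩ := exists_transvection_ne_one h hb hι
  exact hg1 (eq_one_of_tensorProduct hm hk e P (hle hg) hfix)

theorem not_le_tensorSquare (h : Herm q σ f) {b : Module.Basis ι F (ι → F)} (hb : Orthonormal f b)
    {m : ℕ} (hm : 3 ≤ m) (e : ι ≃ (Fin 2 → Fin m)) (P : GL ι F) :
    ¬ unitarySL f ≤ Geo.tensorWreathSubgroup m 2 e P := by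
  intro hle
  have hι : 2 ≤ Fintype.card ι := by rw [Fintype.card_congr e]; simp; nlinarith
  obtain ⟨g, hg, hg1, hfix⟩ := exists_transvection_ne_one h hb hι
  exact hg1 (eq_one_of_tensorSquare hm e P (hle hg) hfix)

/-- An element fixing a hyperplane fixes every member of a decomposition into members of dimension at least
two. -/
theorem mem_stabilizer_of_fixesHyperplane {t m : ℕ} {D : Fin t → Submodule F (ι → F)}
    (hD : Geo.IsMDecomposition m D) (hm : 2 ≤ m) {g : GL ι F} (hg : g ∈ Geo.decompositionStabilizer D)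
    (hfix : FixesHyperplane g) (i : Fin t) : g ∈ Geo.subspaceStabilizer (D i) := by
  obtain ⟨π, hπ⟩ := hg
  obtain ⟨W, hW, hWfix⟩ := hfix
  have hi : π i = i := by
    by_contra hne
    have hdis : D i ⊓ W ≤ D i ⊓ D (π i) := by
      intro v hv
      refine ⟨hv.1, ?_⟩
      rw [← hπ i]
      exact ⟨v, hv.1, (Matrix.toLin'_apply _ _).trans (hWfix v hv.2)⟩
    rw [(hD.indep.pairwiseDisjoint (fun h => hne h.symm)).eq_bot, le_bot_iff] at hdis
    have h1 := Submodule.finrank_sup_add_finrank_inf_eq (D i) W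
    have h2 := Submodule.finrank_le (D i ⊔ W)
    rw [hdis, finrank_bot, hD.finrank_eq] at h1
    rw [Module.finrank_fintype_fun_eq_card] at h2
    omega
  refine Aschbacher.mem_subspaceStabilizer fun w hw => ?_
  have h1 : (g : Matrix ι ι F) *ᵥ w ∈ (D i).map (Matrix.toLin' (g : Matrix ι ι F)) :=
    ⟨w, hw, Matrix.toLin'_apply _ _⟩
  rwa [hπ i, hi] at h1

theorem not_le_decomposition (h : Herm q σ f) {b : Module.Basis ι F (ι → F)} (hb : Orthonormal f b)
    (h6 : 6 ≤ Fintype.card ι) {t m : ℕ} {D : Fin t → Submodule F (ι → F)}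
    (hD : Geo.IsMDecomposition m D) (hm : 2 ≤ m) : ¬ unitarySL f ≤ Geo.decompositionStabilizer D := by
  intro hle
  have h2 := hD.two_le
  have hcard := card_eq_of_isMDecomposition hD
  set i : Fin t := ⟨0, by omega⟩
  have hfix : ∀ u c, f u u = 0 → c + σ c = 0 → MaxCl.Unit.utv h.form u c ∈ Geo.subspaceStabilizer (D i) := by
    intro u c hu hc
    refine mem_stabilizer_of_fixesHyperplane hD hm (hle ⟨MaxCl.Unit.utv_mem h.form hu hc, ?_⟩)
      (fixesHyperplane_of_shift (v := u) (φ := c • MaxCl.Unit.flinU h.form u) fun x => ?_) i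
    · exact MaxCl.Unit.det_ptv h.form (by rw [MaxCl.Unit.smul_right h.form, hu, mul_zero])
    · rw [← MaxCl.act_apply, MaxCl.Unit.act_utv h.form hu]
      rfl
  refine h.specialUnitary_not_le_subspaceStabilizer hb (by omega) (fun hbot => ?_) (fun htop => ?_)
    (MaxCl.Unit.su_le_of_utv h.form h6 _ hfix)
  · have := hD.finrank_eq i
    rw [hbot, finrank_bot] at this
    omega
  · have := hD.finrank_eq i
    rw [htop, finrank_top, Module.finrank_fintype_fun_eq_card] at this
    have : t * m ≠ m := by nlinarith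
    omega

/-- The special unitary group stabilises no orthogonal frame. -/
theorem not_le_frame (h : Herm q σ f) {b : Module.Basis ι F (ι → F)} (hb : Orthonormal f b)
    (h6 : 6 ≤ Fintype.card ι) {t : ℕ} {D : Fin t → Submodule F (ι → F)}
    (hD : Geo.IsNondegenerateMDecomposition f 1 D) : ¬ unitarySL f ≤ Geo.decompositionStabilizer D := by
  classical
  intro hle
  have hcard : Fintype.card ι = t := by rw [card_eq_of_isMDecomposition hD.decomp, mul_one]
  have hne : ∀ i, ∃ v ∈ D i, f v v = 1 := by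
    intro i
    obtain ⟨v, hv, hv0⟩ := (Submodule.ne_bot_iff (D i)).1 fun hbot => by
      have := hD.decomp.finrank_eq i
      rw [hbot, finrank_bot] at this
      omega
    obtain ⟨x, hx, hvx⟩ := (hD.nondegenerate i v hv hv0).2
    obtain ⟨r, hr⟩ := (finrank_eq_one_iff_of_nonzero' (⟨v, hv⟩ : D i) (fun hv' => hv0 (congrArg Subtype.val hv'))).1
      (hD.decomp.finrank_eq i) ⟨x, hx⟩
    have hr' : x = r • v := (congrArg Subtype.val hr).symm
    have hvv : f v v ≠ 0 := fun h0 => hvx (by rw [hr', h.sesq.smul_right, h0, mul_zero])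
    have hfx : σ (f v v) = f v v := (h.form.herm v v).symm
    obtain ⟨d, hd⟩ := h.exists_norm (inv_ne_zero hvv) (by rw [map_inv₀, hfx])
    refine ⟨d • v, (D i).smul_mem d hv, ?_⟩
    rw [h.sesq.smul_left, h.sesq.smul_right, ← mul_assoc, RingEquiv.toRingHom_eq_coe, RingHom.coe_coe, hd,
      inv_mul_cancel₀ hvv]
  choose v hv hvv using hne
  let e : Fin t ≃ ι := (Fintype.equivFinOfCardEq hcard).symm
  have horth : ∀ i j : ι, f (v (e.symm i)) (v (e.symm j)) = if i = j then 1 else 0 := by
    intro i j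
    by_cases hij : i = j
    · rw [if_pos hij, hij, hvv]
    · rw [if_neg hij, hD.orthogonal _ _ (fun h' => hij (e.symm.injective h')) _ (hv _) _ (hv _)]
  have hli : LinearIndependent F fun i : ι => v (e.symm i) := by
    rw [Fintype.linearIndependent_iff]
    intro s hs i
    have h1 := congrArg (MaxCl.Unit.flinU h.form (v (e.symm i))) hs
    rw [map_sum, map_zero, Finset.sum_eq_single i (fun j _ hj => by
      rw [map_smul, MaxCl.Unit.flinU_apply, horth, if_neg hj, smul_zero]) (fun hn => absurd (Finset.mem_univ i) hn),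
      map_smul, MaxCl.Unit.flinU_apply, horth, if_pos rfl, smul_eq_mul, mul_one] at h1
    exact h1
  let b' : Module.Basis ι F (ι → F) := basisOfLinearIndependentOfCardEqFinrank' _ hli (by simp)
  have hb' : ∀ i, b' i = v (e.symm i) := fun i => by simp [b']
  refine h.specialUnitary_not_le_frameStabilizer (b := b') (fun i j => by rw [hb', hb', horth]) (by omega)
    (fun _ => by omega) fun g hg i => ?_
  obtain ⟨π, hπ⟩ := hle hg
  refine ⟨e (π (e.symm i)), ?_⟩
  have h1 : (g : Matrix ι ι F) *ᵥ v (e.symm i) ∈ D (π (e.symm i)) := by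
    rw [← hπ]; exact ⟨_, hv _, Matrix.toLin'_apply _ _⟩
  obtain ⟨r, hr⟩ := (finrank_eq_one_iff_of_nonzero' (⟨v (π (e.symm i)), hv _⟩ : D (π (e.symm i)))
    (fun hv' => by
      have := hvv (π (e.symm i))
      rw [show v (π (e.symm i)) = 0 from congrArg Subtype.val hv', h.zero_left] at this
      exact zero_ne_one this)).1 (hD.decomp.finrank_eq _) ⟨_, h1⟩
  refine ⟨r, ?_⟩
  rw [hb', hb', Equiv.symm_apply_apply]
  exact (congrArg Subtype.val hr).symm

end Cfsg.Agent.Aschbacher.SUExplicit
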