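import Cfsg.Agent.Lib.Aschbacher.SUExplicit.NonContain
import Cfsg.Agent.Lib.Aschbacher.SUExplicit.Binary

/-!
Over four elements the stabiliser of an orthogonal frame of a six-dimensional Hermitian space is not maximal
in the special unitary group: it fixes a larger configuration of `126` isotropic points.
-/

set_option autoImplicit false

namespace Cfsg.Agent.Aschbacher.SUExplicit

open Matrix
open scoped MatrixGroups

/-- Addition of the field of four elements, coded on `Fin 4`. -/
def fourAdd (x y : Fin 4) : Fin 4 :=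
  (![![0, 1, 2, 3], ![1, 0, 3, 2], ![2, 3, 0, 1], ![3, 2, 1, 0]] : Fin 4 → Fin 4 → Fin 4) x y

/-- Multiplication of the field of four elements, coded on `Fin 4`. -/
def fourMul (x y : Fin 4) : Fin 4 :=
  (![![0, 0, 0, 0], ![0, 1, 2, 3], ![0, 2, 3, 1], ![0, 3, 1, 2]] : Fin 4 → Fin 4 → Fin 4) x y

/-- The configuration, on coordinate vectors of the coded field. -/
def codeConfig (a : Fin 6 → Fin 4) : Bool :=
  let z : ℕ := (if a 0 = 0 then 1 else 0) + (if a 1 = 0 then 1 else 0) + (if a 2 = 0 then 1 else 0) +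
    (if a 3 = 0 then 1 else 0) + (if a 4 = 0 then 1 else 0) + (if a 5 = 0 then 1 else 0)
  (z == 4) || ((z == 0) && (fourMul (fourMul (fourMul (fourMul (fourMul (a 0) (a 1)) (a 2)) (a 3)) (a 4)) (a 5) == 1))

/-- The shift by the sum of the coordinates. -/
def codeShift (a : Fin 6 → Fin 4) : Fin 6 → Fin 4 :=
  fun i => fourAdd (a i) (fourAdd (fourAdd (fourAdd (fourAdd (fourAdd (a 0) (a 1)) (a 2)) (a 3)) (a 4)) (a 5))

theorem codeConfig_shift : ∀ a b c d e g : Fin 4, codeConfig ![a, b, c, d, e, g] = true →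
    codeConfig (codeShift ![a, b, c, d, e, g]) = true := by decide +kernel

variable {F : Type*} [Field F] [Fintype F]

/-- The coded field is the field of four elements. -/
theorem exists_code (h4 : Fintype.card F = 4) (h2 : (2 : F) = 0) :
    ∃ φ : Fin 4 → F, Function.Bijective φ ∧ φ 0 = 0 ∧ φ 1 = 1 ∧ (∀ x y, φ (fourAdd x y) = φ x + φ y) ∧
      ∀ x y, φ (fourMul x y) = φ x * φ y := by
  classical
  obtain ⟨ω, -, hω⟩ := Finset.exists_mem_notMem_of_card_lt_card (s := ({0, 1} : Finset F)) (t := Finset.univ)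
    (by rw [Finset.card_univ, h4]; exact (Finset.card_le_two).trans_lt (by norm_num))
  simp only [Finset.mem_insert, Finset.mem_singleton, not_or] at hω
  have hω3 : ω ^ 3 = 1 := by
    have := FiniteField.pow_card_sub_one_eq_one ω hω.1
    rwa [h4] at this
  have hω2 : ω * ω = ω + 1 := by
    have h1 : (ω - 1) * (ω * ω + ω + 1) = 0 := by linear_combination hω3
    have h3 := (mul_eq_zero.1 h1).resolve_left (sub_ne_zero.2 hω.2)
    linear_combination h3 - (ω + 1) * h2
  refine ⟨![0, 1, ω, ω + 1], ?_, rfl, rfl, fun x y => ?_, fun x y => ?_⟩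
  · rw [Fintype.bijective_iff_injective_and_card, Fintype.card_fin, h4]
    refine ⟨fun x y => ?_, rfl⟩
    have hn : ω + 1 ≠ 0 := fun h => hω.2 (by linear_combination h - h2)
    have hn1 : ω + 1 ≠ 1 := fun h => hω.1 (by linear_combination h)
    fin_cases x <;> fin_cases y <;> simp [hω.1, hω.2, Ne.symm hω.1, Ne.symm hω.2, hn, hn1, Ne.symm hn, Ne.symm hn1]
  · fin_cases x <;> fin_cases y <;>
      simp [fourAdd] <;> first
        | done
        | linear_combination h2
        | linear_combination -h2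
        | linear_combination ω * h2
        | linear_combination -ω * h2
        | linear_combination (ω + 1) * h2
        | linear_combination -(ω + 1) * h2
        | ring
  · fin_cases x <;> fin_cases y <;>
      simp [fourMul] <;> first
        | done
        | linear_combination hω2
        | linear_combination -hω2
        | linear_combination hω2 + h2 * ω
        | linear_combination -hω2 - h2 * ω
        | linear_combination hω2 + h2 * (ω + 1)
        | linear_combination -hω2 - h2 * (ω + 1)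
        | linear_combination hω2 + h2
        | linear_combination -hω2 - h2
        | ring

/-- The configuration: weight two, or full weight with product one. -/
def Config (a : Fin 6 → F) : Prop :=
  Nat.card {i // a i = 0} = 4 ∨ (Nat.card {i // a i = 0} = 0 ∧ ∏ i, a i = 1)

theorem config_shift (h4 : Fintype.card F = 4) (h2 : (2 : F) = 0) {a : Fin 6 → F} (ha : Config a) :
    Config fun i => a i + ∑ j, a j := by
  classical
  obtain ⟨φ, hφ, h0, h1, hadd, hmul⟩ := exists_code h4 h2
  have key : ∀ c : Fin 6 → Fin 4, Config (φ ∘ c) ↔ codeConfig c = true := by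
    intro c
    have hz : ∀ i, φ (c i) = 0 ↔ c i = 0 := fun i =>
      ⟨fun h => hφ.1 (h.trans h0.symm), fun h => by rw [h, h0]⟩
    have hone : ∀ x, φ x = 1 ↔ x = 1 := fun x => ⟨fun h => hφ.1 (h.trans h1.symm), fun h => by rw [h, h1]⟩
    have hcard : Nat.card {i // (φ ∘ c) i = 0} = ∑ i, (if c i = 0 then 1 else 0 : ℕ) := by
      rw [Nat.card_eq_fintype_card, Fintype.card_subtype, Finset.card_filter]
      exact Finset.sum_congr rfl fun i _ => by simp only [Function.comp_apply, hz]
    have hprod : ∏ i, (φ ∘ c) i = φ (fourMul (fourMul (fourMul (fourMul (fourMul (c 0) (c 1)) (c 2)) (c 3)) (c 4)) (c 5)) := by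
      simp only [hmul, Fin.prod_univ_six, Function.comp_apply]
    rw [Config, hcard, hprod, hone, Fin.sum_univ_six, codeConfig]
    simp only [Bool.or_eq_true, Bool.and_eq_true, beq_iff_eq]
  obtain ⟨c, rfl⟩ : ∃ c : Fin 6 → Fin 4, a = φ ∘ c :=
    ⟨fun i => Function.surjInv hφ.2 (a i), funext fun i => (Function.surjInv_eq hφ.2 (a i)).symm⟩
  have hc : c = ![c 0, c 1, c 2, c 3, c 4, c 5] := by funext i; fin_cases i <;> rfl
  have hs : (fun i => (φ ∘ c) i + ∑ j, (φ ∘ c) j) = φ ∘ codeShift c := by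
    funext i
    simp only [Function.comp_apply, codeShift, hadd, Fin.sum_univ_six]
  rw [hs, key]
  have h3 := codeConfig_shift (c 0) (c 1) (c 2) (c 3) (c 4) (c 5)
  rw [← hc] at h3
  exact h3 ((key c).1 ha)

variable {σ : F ≃+* F} {f : (Fin 6 → F) → (Fin 6 → F) → F}

/-- A frame stabiliser is no maximal subgroup. -/
theorem not_maximal_frame (h : Herm 2 σ f) {H : Subgroup (GL (Fin 6) F)}
    (hH : Geo.IsMaximalIn (unitarySL f) H) {D : Fin 6 → Submodule F (Fin 6 → F)}
    (hD : Geo.IsNondegenerateMDecomposition f 1 D) (hle : H ≤ Geo.decompositionStabilizer D) : False := by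
  classical
  have h4 : Fintype.card F = 4 := h.card
  have h2 : (2 : F) = 0 := two_eq_zero h rfl
  have hne : ∀ i, ∃ v ∈ D i, v ≠ 0 := fun i => (Submodule.ne_bot_iff (D i)).1 fun hbot => by
    have := hD.decomp.finrank_eq i
    rw [hbot, finrank_bot] at this
    omega
  choose v hv hv0 using hne
  have hspan : ∀ i, ∀ x ∈ D i, ∃ r : F, x = r • v i := fun i x hx => by
    obtain ⟨r, hr⟩ := (finrank_eq_one_iff_of_nonzero' (⟨v i, hv i⟩ : D i)
      (fun hv' => hv0 i (congrArg Subtype.val hv'))).1 (hD.decomp.finrank_eq i) ⟨x, hx⟩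
    exact ⟨r, (congrArg Subtype.val hr).symm⟩
  have hvv : ∀ i, f (v i) (v i) = 1 := by
    intro i
    obtain ⟨x, hx, hx'⟩ := (hD.nondegenerate i (v i) (hv i) (hv0 i)).2
    obtain ⟨r, rfl⟩ := hspan i x hx
    have hne : f (v i) (v i) ≠ 0 := fun h0 => hx' (by rw [h.sesq.smul_right, h0, mul_zero])
    have h1 := norm_eq_one h rfl hne
    rw [← h.form.herm (v i) (v i)] at h1
    have h3 : (f (v i) (v i) - 1) * (f (v i) (v i) - 1) = 0 := by
      linear_combination h1 + (1 - f (v i) (v i)) * h2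
    exact sub_eq_zero.1 (mul_self_eq_zero.1 h3)
  have horth : ∀ i j, i ≠ j → f (v i) (v j) = 0 := fun i j hij => hD.orthogonal i j hij _ (hv i) _ (hv j)
  let b : Module.Basis (Fin 6) F (Fin 6 → F) := basisOfLinearIndependentOfCardEqFinrank
    (hD.decomp.indep.linearIndependent D hv hv0) (by simp)
  have hb : ∀ i, b i = v i := fun i => by simp [b]
  -- a subgroup containing the stabiliser
  let T : Set (Fin 6 → F) := {x | Config fun i => b.repr x i}
  let M : Subgroup (GL (Fin 6) F) :=
    { carrier := {g | ∀ x, (g : Matrix (Fin 6) (Fin 6) F) *ᵥ x ∈ T ↔ x ∈ T}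
      one_mem' := fun x => by simp
      mul_mem' := fun {g g'} hg hg' x => by rw [Units.val_mul, ← Matrix.mulVec_mulVec, hg, hg']
      inv_mem' := fun {g} hg x => by
        rw [← hg (((g⁻¹ : GL (Fin 6) F) : Matrix (Fin 6) (Fin 6) F) *ᵥ x), mulVec_inv] }
  have hstab : ∀ g ∈ Geo.decompositionStabilizer D ⊓ unitarySL f, g ∈ M := by
    rintro g ⟨⟨π, hπ⟩, hg⟩
    have hcol : ∀ i, ∃ r : F, (g : Matrix (Fin 6) (Fin 6) F) *ᵥ b i = r • b (π i) := fun i => by
      obtain ⟨r, hr⟩ := hspan (π i) ((g : Matrix (Fin 6) (Fin 6) F) *ᵥ v i) (by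
        rw [← hπ]; exact ⟨_, hv i, Matrix.toLin'_apply _ _⟩)
      exact ⟨r, by rw [hb, hb]; exact hr⟩
    choose r hr using hcol
    have hrepr : ∀ x, ∀ i, b.repr ((g : Matrix (Fin 6) (Fin 6) F) *ᵥ x) (π i) = r i * b.repr x i := by
      intro x i
      conv_lhs => rw [← b.sum_repr x, Matrix.mulVec_sum]
      simp only [Matrix.mulVec_smul, hr, map_sum, map_smul, Module.Basis.repr_self, Finsupp.coe_finset_sum,
        Finset.sum_apply, Finsupp.coe_smul, Pi.smul_apply, Finsupp.single_apply, smul_eq_mul]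
      rw [Finset.sum_eq_single i (fun j _ hj => by simp [hj]) (fun hn => absurd (Finset.mem_univ i) hn),
        if_pos rfl, mul_one, mul_comm]
    have hr0 : ∀ i, r i ≠ 0 := fun i h0 => b.ne_zero i ((Aschbacher.mulVec_eq_zero_iff g).1 (by rw [hr, h0, zero_smul]))
    have hdet : ∏ i, r i = 1 := by
      have hm : LinearMap.toMatrix b b (Matrix.toLin' (g : Matrix (Fin 6) (Fin 6) F)) =
          (Matrix.diagonal fun i => r (π.symm i)).submatrix id π := by
        ext i j
        rw [LinearMap.toMatrix_apply, Matrix.toLin'_apply, hr, map_smul, Finsupp.smul_apply,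
          Module.Basis.repr_self, Finsupp.single_apply, Matrix.submatrix_apply, Matrix.diagonal_apply, id,
          smul_eq_mul]
        by_cases hij : π j = i
        · subst hij; simp
        · rw [if_neg hij, if_neg (Ne.symm hij), mul_zero]
      have hd : (Matrix.toLin' (g : Matrix (Fin 6) (Fin 6) F)).det = 1 := by
        rw [LinearMap.det_toLin']
        simpa using congrArg Units.val (MonoidHom.mem_ker.1 hg.2)
      rw [← LinearMap.det_toMatrix b, hm, Matrix.det_permute', Matrix.det_diagonal] at hd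
      rw [show ((Equiv.Perm.sign π : ℤ) : F) = 1 from ?_, one_mul] at hd
      · rwa [Equiv.prod_comp π.symm r] at hd
      · rcases Int.units_eq_one_or (Equiv.Perm.sign π) with hs | hs <;> rw [hs]
        · simp
        · push_cast; linear_combination -h2
    intro x
    have he : Nat.card {i // b.repr ((g : Matrix (Fin 6) (Fin 6) F) *ᵥ x) i = 0} =
        Nat.card {i // b.repr x i = 0} :=
      Nat.card_congr (π.subtypeEquiv fun i => by rw [hrepr]; simp [hr0 i]).symm
    have hp : ∏ i, b.repr ((g : Matrix (Fin 6) (Fin 6) F) *ᵥ x) i = ∏ i, b.repr x i := by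
      rw [← Equiv.prod_comp π (fun i => b.repr ((g : Matrix (Fin 6) (Fin 6) F) *ᵥ x) i)]
      simp only [hrepr, Finset.prod_mul_distrib, hdet, one_mul]
    show (_ ∨ _) ↔ (_ ∨ _)
    rw [he, hp]
  have hHM : H ≤ M ⊓ unitarySL f := le_inf (fun g hg => hstab g ⟨hle hg, hH.1.le hg⟩) hH.1.le
  -- coordinates of transvections
  have hrepr : ∀ (x u : Fin 6 → F), f x u = ∑ i, b.repr x i * σ (b.repr u i) := by
    intro x u
    conv_lhs => rw [← b.sum_repr x, ← b.sum_repr u]
    show MaxCl.Unit.flinU h.form _ _ = _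
    rw [map_sum]
    refine Finset.sum_congr rfl fun i _ => ?_
    rw [map_smul, MaxCl.Unit.flinU_apply, hb, smul_eq_mul]
    congr 1
    rw [h.form.herm]
    show σ (MaxCl.Unit.flinU h.form (v i) (∑ j, b.repr u j • b j)) = _
    rw [map_sum, Finset.sum_eq_single i (fun j _ hj => by
        rw [map_smul, MaxCl.Unit.flinU_apply, hb, horth j i hj, smul_zero])
      (fun hn => absurd (Finset.mem_univ i) hn), map_smul, MaxCl.Unit.flinU_apply, hb, hvv, smul_eq_mul,
      mul_one]
  have htr : ∀ u : Fin 6 → F, f u u = 0 → ∃ g ∈ unitarySL f, ∀ x i,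
      b.repr ((g : Matrix (Fin 6) (Fin 6) F) *ᵥ x) i = b.repr x i + f x u * b.repr u i := by
    intro u hu
    obtain ⟨g, hg, hgu⟩ := h.exists_transvection hu (c := 1) (by rw [map_one]; linear_combination h2)
    exact ⟨g, hg, fun x i => by rw [hgu, map_add, map_smul]; simp⟩
  set u₁ : Fin 6 → F := b.equivFun.symm fun _ => 1
  have hu₁ : ∀ i, b.repr u₁ i = 1 := fun i => congrFun (b.equivFun.apply_symm_apply _) i
  have hf₁ : ∀ x, f x u₁ = ∑ i, b.repr x i := fun x => by simp [hrepr, hu₁]
  obtain ⟨g₁, hg₁, hg₁u⟩ := htr u₁ (by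
    rw [hf₁]; simp only [hu₁, Fin.sum_univ_six]; linear_combination 3 * h2)
  have hg₁M : g₁ ∈ M := by
    have hsh : ∀ x, x ∈ T → (g₁ : Matrix (Fin 6) (Fin 6) F) *ᵥ x ∈ T := fun x hx => by
      show Config _
      rw [show (fun i => b.repr ((g₁ : Matrix (Fin 6) (Fin 6) F) *ᵥ x) i) =
        fun i => b.repr x i + ∑ j, b.repr x j from funext fun i => by rw [hg₁u, hf₁, hu₁, mul_one]]
      exact config_shift h4 h2 hx
    refine fun x => ⟨fun hx => ?_, hsh x⟩
    have h3 := hsh _ hx
    rwa [show (g₁ : Matrix (Fin 6) (Fin 6) F) *ᵥ ((g₁ : Matrix (Fin 6) (Fin 6) F) *ᵥ x) = x from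
      b.repr.injective (Finsupp.ext fun i => by
        rw [hg₁u, hg₁u, hf₁, hf₁]
        simp only [hg₁u, hf₁, hu₁, mul_one, Fin.sum_univ_six]
        linear_combination (4 * (b.repr x 0 + b.repr x 1 + b.repr x 2 + b.repr x 3 + b.repr x 4 +
          b.repr x 5)) * h2)] at h3
  have hg₁D : g₁ ∉ Geo.decompositionStabilizer D := by
    rintro ⟨π, hπ⟩
    obtain ⟨r, hr⟩ := hspan (π 0) ((g₁ : Matrix (Fin 6) (Fin 6) F) *ᵥ v 0) (by
      rw [← hπ]; exact ⟨_, hv 0, Matrix.toLin'_apply _ _⟩)
    obtain ⟨i, hi0, hi⟩ : ∃ i : Fin 6, i ≠ 0 ∧ i ≠ π 0 := by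
      rcases eq_or_ne (π 0) 1 with h1 | h1
      · exact ⟨2, by decide, by rw [h1]; decide⟩
      · exact ⟨1, by decide, Ne.symm h1⟩
    have h3 := congrArg (fun x => b.repr x i) hr
    simp only [← hb, hg₁u, hf₁, hu₁, map_smul, Module.Basis.repr_self, Finsupp.smul_apply, Finsupp.single_apply,
      if_neg (Ne.symm hi0), if_neg (Ne.symm hi), mul_one, zero_add, smul_zero] at h3
    rw [Finset.sum_eq_single (0 : Fin 6) (fun j _ hj => by simp [Ne.symm hj]) (fun hn => absurd (Finset.mem_univ _) hn),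
      if_pos rfl] at h3
    exact one_ne_zero h3
  rcases hH.2 (M ⊓ unitarySL f) hHM inf_le_right with he | he
  · exact hg₁D (hle (he ▸ (⟨hg₁M, hg₁⟩ : g₁ ∈ M ⊓ unitarySL f)))
  -- but a transvection of weight four moves the configuration
  set u₂ : Fin 6 → F := b.equivFun.symm ![1, 1, 1, 1, 0, 0]
  have hu₂ : ∀ i, b.repr u₂ i = ![1, 1, 1, 1, 0, 0] i := fun i => congrFun (b.equivFun.apply_symm_apply _) i
  obtain ⟨g₂, hg₂, hg₂u⟩ := htr u₂ (by
    simp only [hrepr, hu₂, Fin.sum_univ_six]
    simp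
    linear_combination 2 * h2)
  set x : Fin 6 → F := b.equivFun.symm ![1, 0, 0, 0, 1, 0]
  have hx : ∀ i, b.repr x i = ![1, 0, 0, 0, 1, 0] i := fun i => congrFun (b.equivFun.apply_symm_apply _) i
  have hxT : x ∈ T := by
    refine Or.inl ?_
    rw [Nat.card_eq_fintype_card, Fintype.card_subtype, Finset.card_filter, Fin.sum_univ_six]
    simp [hx]
  have h3 : (g₂ : Matrix (Fin 6) (Fin 6) F) *ᵥ x ∈ T := ((he.ge hg₂).1 x).2 hxT
  have hfx : f x u₂ = 1 := by
    simp only [hrepr, hu₂, hx, Fin.sum_univ_six]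
    simp
  have hy : ∀ i, b.repr ((g₂ : Matrix (Fin 6) (Fin 6) F) *ᵥ x) i = ![0, 1, 1, 1, 1, 0] i := fun i => by
    rw [hg₂u, hfx, hx, hu₂, one_mul]
    fin_cases i <;> simp
    linear_combination h2
  change Config _ at h3
  rw [Config, Nat.card_eq_fintype_card, Fintype.card_subtype, Finset.card_filter, Fin.sum_univ_six] at h3
  simp [hy] at h3

end Cfsg.Agent.Aschbacher.SUExplicit
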