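import Cfsg.Agent.Lib.Aschbacher.SUExplicit.Binary
import Cfsg.Agent.Lib.Aschbacher.FieldInvolution
import Mathlib.FieldTheory.Finite.Trace

/-!
Over four elements the normaliser of a cubic field in a six-dimensional Hermitian space stabilises a
symplectic structure over two elements.
-/

set_option autoImplicit false

namespace Cfsg.Agent.Aschbacher.SUExplicit

open Matrix
open scoped MatrixGroups

/-- The determinant of a map permuting a basis up to factors, in characteristic two. -/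
theorem det_monomial {F : Type*} [Field F] (h2 : (2 : F) = 0) {κ : Type} [Fintype κ] [DecidableEq κ] {V : Type*}
    [AddCommGroup V] [Module F V] (b : Module.Basis κ F V) (L : V →ₗ[F] V) (π : Equiv.Perm κ) (r : κ → F)
    (hr : ∀ i, L (b i) = r i • b (π i)) : L.det = ∏ i, r i := by
  have hm : LinearMap.toMatrix b b L = (Matrix.diagonal fun i => r (π.symm i)).submatrix id π := by
    ext i j
    rw [LinearMap.toMatrix_apply, hr, map_smul, Finsupp.smul_apply, Module.Basis.repr_self,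
      Finsupp.single_apply, Matrix.submatrix_apply, Matrix.diagonal_apply, id, smul_eq_mul]
    by_cases hij : π j = i
    · subst hij; simp
    · rw [if_neg hij, if_neg (Ne.symm hij), mul_zero]
  rw [← LinearMap.det_toMatrix b, hm, Matrix.det_permute', Matrix.det_diagonal,
    show ((Equiv.Perm.sign π : ℤ) : F) = 1 from ?_, one_mul, Equiv.prod_comp π.symm r]
  rcases Int.units_eq_one_or (Equiv.Perm.sign π) with hs | hs <;> rw [hs]
  · simp
  · push_cast; linear_combination -h2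

section cubic

variable {F K : Type*} [Field F] [Field K] [Algebra F K]

/-- The powers of an element outside the base field of a cubic extension. -/
theorem linearIndependent_three (hfin : Module.finrank F K = 3) {x : K} (hx : ∀ c, algebraMap F K c ≠ x) :
    LinearIndependent F ![1, x, x * x] := by
  haveI : FiniteDimensional F K := Module.finite_of_finrank_eq_succ hfin
  have hint : IsIntegral F x := IsIntegral.of_finite F x
  have hd : (minpoly F x).natDegree = 3 := by
    have h1 : (minpoly F x).natDegree ∣ 3 := hfin ▸ minpoly.degree_dvd hint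
    rcases (Nat.dvd_prime Nat.prime_three).1 h1 with h | h
    · obtain ⟨c, hc⟩ := minpoly.natDegree_eq_one_iff.1 h
      exact absurd hc (hx c)
    · exact h
  have h1 := (linearIndependent_pow (K := F) x).comp (Fin.cast hd.symm) (Fin.cast_injective _)
  convert h1 using 1
  funext i
  fin_cases i <;> simp [pow_two]

/-- The algebraic data: the semilinear structure of an element of the normaliser. -/
theorem exists_twist [CharP K 2] (x y z w : K) (h64 : ∀ k : K, k ^ 64 = k) (hxy : x * y ^ 8 + y * x ^ 8 = 0)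
    (hzw : z * w ^ 8 + w * z ^ 8 = 0) (hone : x * w ^ 8 + y * z ^ 8 = 1) :
    ∃ lam : K, lam ^ 9 = 1 ∧ ∀ v ∈ ({x, y, z, w} : Set K), ∃ e : K, e ^ 8 = e ∧ v = lam * e := by
  have h2 : (2 : K) = 0 := by exact_mod_cast CharP.cast_eq_zero K 2
  have hlam : ∀ x : K, x ≠ 0 → ∃ lam : K, lam ^ 9 = 1 ∧ lam * lam * x ^ 8 = x := by
    intro x hx
    refine ⟨(x * (x ^ 8)⁻¹) ^ 32, ?_, ?_⟩
    · have h9 : (x ^ 8) ^ 9 = x ^ 9 := by
        rw [← pow_mul, show 8 * 9 = 64 + 8 by norm_num, pow_add, h64, ← pow_succ']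
      rw [← pow_mul, mul_comm 32 9, pow_mul, mul_pow, inv_pow, h9,
        mul_inv_cancel₀ (pow_ne_zero _ hx), one_pow]
    · rw [← pow_add, h64, mul_assoc, inv_mul_cancel₀ (pow_ne_zero _ hx), mul_one]
  -- the common factor of the first row
  obtain ⟨lam, h9, hx, hy⟩ : ∃ lam : K, lam ^ 9 = 1 ∧ lam * lam * x ^ 8 = x ∧ lam * lam * y ^ 8 = y := by
    by_cases hx0 : x = 0
    · have hy0 : y ≠ 0 := fun h => by rw [hx0, h] at hone; simp at hone
      obtain ⟨lam, h9, hl⟩ := hlam y hy0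
      exact ⟨lam, h9, by rw [hx0]; simp, hl⟩
    · obtain ⟨lam, h9, hl⟩ := hlam x hx0
      refine ⟨lam, h9, hl, mul_left_cancel₀ (pow_ne_zero 8 hx0) ?_⟩
      linear_combination y ^ 8 * hl - hxy + x * y ^ 8 * h2
  have hl0 : lam ≠ 0 := fun h => by rw [h] at h9; simp at h9
  have hl8 : lam ^ 8 * lam = 1 := by rw [← pow_succ]; exact h9
  have hE : ∀ {v : K}, lam * lam * v ^ 8 = v → ∃ e : K, e ^ 8 = e ∧ v = lam * e := by
    intro v hv
    refine ⟨lam⁻¹ * v, ?_, by rw [← mul_assoc, mul_inv_cancel₀ hl0, one_mul]⟩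
    have hinv : (lam⁻¹) ^ 8 = lam := by rw [inv_pow]; exact inv_eq_of_mul_eq_one_right hl8
    rw [mul_pow, hinv]
    conv_rhs => rw [← hv]
    rw [mul_assoc lam lam, inv_mul_cancel_left₀ hl0]
  obtain ⟨s, hs, rfl⟩ := hE hx
  obtain ⟨t, ht, rfl⟩ := hE hy
  -- the second row
  set U := lam⁻¹ * w + (lam⁻¹ * w) ^ 8
  set V := lam⁻¹ * z + (lam⁻¹ * z) ^ 8
  set Z := lam⁻¹ * z with hZ
  set W := lam⁻¹ * w with hW
  have hz : z = lam * Z := by rw [hZ, ← mul_assoc, mul_inv_cancel₀ hl0, one_mul]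
  have hw : w = lam * W := by rw [hW, ← mul_assoc, mul_inv_cancel₀ hl0, one_mul]
  have e1 : s * W ^ 8 + t * Z ^ 8 = 1 := by
    rw [hw, hz] at hone
    linear_combination hone - (s * W ^ 8 + t * Z ^ 8) * hl8
  have e2 : Z * W ^ 8 + W * Z ^ 8 = 0 := by
    rw [hw, hz] at hzw
    linear_combination hzw - (Z * W ^ 8 + W * Z ^ 8) * hl8
  have e3 : s * W + t * Z = 1 := by
    have h1 := congrArg (iterateFrobenius K 2 3) e1
    simp only [map_add, map_mul, map_one] at h1
    simp only [iterateFrobenius_def, show 2 ^ 3 = 8 from rfl, hs, ht, ← pow_mul, show 8 * 8 = 64 from rfl, h64] at h1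
    exact h1
  have hUV : W ^ 8 = W ∧ Z ^ 8 = Z := by
    have hV : Z ^ 8 + Z = 0 := by
      by_cases hs0 : s = 0
      · rw [hs0, zero_mul, zero_add] at e1 e3
        have ht0 : t ≠ 0 := left_ne_zero_of_mul_eq_one e1
        refine (mul_eq_zero.1 (show t * (Z ^ 8 + Z) = 0 from ?_)).resolve_left ht0
        linear_combination e1 + e3 + h2
      · linear_combination s * e2 - Z * e1 - Z ^ 8 * e3 + (Z ^ 8 * t * Z) * h2
    have hU : W ^ 8 + W = 0 := by
      by_cases hs0 : s = 0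
      · rw [hs0, zero_mul, zero_add] at e1 e3
        linear_combination t * e2 - W * e1 - W ^ 8 * e3
      · refine (mul_eq_zero.1 (show s * (W ^ 8 + W) = 0 from ?_)).resolve_left hs0
        linear_combination e1 + e3 + h2 - t * hV
    exact ⟨by linear_combination hU - W * h2, by linear_combination hV - Z * h2⟩
  refine ⟨lam, h9, ?_⟩
  rintro v (rfl | rfl | rfl | rfl)
  · exact ⟨s, hs, rfl⟩
  · exact ⟨t, ht, rfl⟩
  · exact ⟨Z, hUV.2, hz⟩
  · exact ⟨W, hUV.1, hw⟩

end cubic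

variable {F : Type*} [Field F] [Fintype F] {σ : F ≃+* F} {f : (Fin 6 → F) → (Fin 6 → F) → F}

theorem fix_iff (h : Herm 2 σ f) {c : F} : σ c = c ↔ c = 0 ∨ c = 1 := by
  rw [h.apply_eq]
  refine ⟨fun hc => ?_, by rintro (rfl | rfl) <;> simp⟩
  rw [← sub_eq_zero (a := c) (b := 1), ← mul_eq_zero]
  linear_combination hc

theorem card_fixedField (h : Herm 2 σ f) : Nat.card (fixedField σ) = 2 := by
  classical
  rw [← Nat.card_congr (Equiv.subtypeEquivRight (p := fun c : F => c ∈ ({0, 1} : Finset F))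
    (q := fun c => c ∈ fixedField σ) fun c => by rw [mem_fixedField, fix_iff h]; simp),
    Nat.card_eq_fintype_card, Fintype.card_coe, Finset.card_pair zero_ne_one]

section Embedded

variable {K : Type*} [Field K] [Fintype K] [Algebra F K]

theorem card_cubic (h4 : Fintype.card F = 4) (hfin : Module.finrank F K = 3) : Fintype.card K = 64 := by
  rw [Module.card_eq_pow_finrank (K := F), hfin, h4]
  norm_num

theorem pow_64 (h4 : Fintype.card F = 4) (hfin : Module.finrank F K = 3) (k : K) : k ^ 64 = k := by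
  have := FiniteField.pow_card k
  rwa [card_cubic h4 hfin] at this

theorem pow_four (h4 : Fintype.card F = 4) (c : F) : c ^ 4 = c := by
  have := FiniteField.pow_card c
  rwa [h4] at this

theorem trace_cubic (h4 : Fintype.card F = 4) (hfin : Module.finrank F K = 3) (k : K) :
    algebraMap F K (Algebra.trace F K k) = k + k ^ 4 + k ^ 16 := by
  rw [FiniteField.algebraMap_trace_eq_sum_pow, hfin, Nat.card_eq_fintype_card, h4]
  simp [Finset.sum_range_succ]

/-- A cube root of unity lies in the base field. -/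
theorem mem_base_of_pow_three [CharP K 2] (h4 : Fintype.card F = 4) (hfin : Module.finrank F K = 3) {k : K}
    (hk : k ^ 3 = 1) : algebraMap F K (Algebra.trace F K k) = k := by
  rw [trace_cubic h4 hfin, show k ^ 4 = k by rw [pow_succ, hk, one_mul],
    show k ^ 16 = k by rw [show 16 = 3 * 5 + 1 from rfl, pow_succ, pow_mul, hk, one_pow, one_mul]]
  have h2 : (2 : K) = 0 := by exact_mod_cast CharP.cast_eq_zero K 2
  linear_combination k * h2

theorem trace_pow_eight [CharP K 2] (h : Herm 2 σ f) (hfin : Module.finrank F K = 3) (k : K) :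
    Algebra.trace F K (k ^ 8) = σ (Algebra.trace F K k) := by
  have h4 : Fintype.card F = 4 := h.card
  apply (algebraMap F K).injective
  have h8 : algebraMap F K (σ (Algebra.trace F K k)) = algebraMap F K (Algebra.trace F K k) ^ 8 := by
    rw [← map_pow, h.apply_eq, show 8 = 4 * 2 from rfl, pow_mul, pow_four h4]
  rw [trace_cubic h4 hfin, h8, trace_cubic h4 hfin, show (8 : ℕ) = 2 ^ 3 from rfl, add_pow_char_pow,
    add_pow_char_pow]
  ring

variable (ρ : K →ₐ[F] Matrix (Fin 6) (Fin 6) F)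

theorem act_mul (k l : K) (v : Fin 6 → F) : ρ (k * l) *ᵥ v = ρ k *ᵥ (ρ l *ᵥ v) := by
  rw [map_mul, Matrix.mulVec_mulVec]

/-- The adjoint on an embedded cubic field is the eighth power. -/
theorem adjoint_eq_pow [CharP K 2] (h : Herm 2 σ f) (hfin : Module.finrank F K = 3)
    (hcl : ∀ k : K, ∃ l : K, ∀ u v, f (ρ k *ᵥ u) v = f u (ρ l *ᵥ v)) (k : K) (u v : Fin 6 → F) :
    f (ρ k *ᵥ u) v = f u (ρ (k ^ 8) *ᵥ v) := by
  have h4 : Fintype.card F = 4 := h.card
  have hinj : Function.Injective ρ := ρ.toRingHom.injective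
  have hfext : ∀ a b : Fin 6 → F, (∀ u, f u a = f u b) → a = b := by
    intro a b hab
    by_contra hne
    obtain ⟨x, hx⟩ := (h.form.nondegenerate (a - b) (sub_ne_zero.2 hne)).1
    apply hx
    rw [show a - b = a + (-1 : F) • b by rw [neg_one_smul, sub_eq_add_neg], h.sesq.add_right, h.sesq.smul_right,
      hab x]
    simp
  choose conj hconj using hcl
  have huniq : ∀ k l, (∀ u v, f (ρ k *ᵥ u) v = f u (ρ l *ᵥ v)) → conj k = l := fun k l hkl =>
    hinj (Matrix.ext_of_mulVec_single fun i => hfext _ _ fun u => (hconj k u _).symm.trans (hkl u _))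
  have hconj2 : ∀ k, conj (conj k) = k := fun k => huniq _ _ fun u v => by
    rw [h.form.herm, ← hconj, ← h.form.herm]
  have hadd : ∀ k l, conj (k + l) = conj k + conj l := fun k l => huniq _ _ fun u v => by
    rw [map_add, Matrix.add_mulVec, h.sesq.add_left, map_add, Matrix.add_mulVec, h.sesq.add_right, hconj, hconj]
  have hmul : ∀ k l, conj (k * l) = conj k * conj l := fun k l => huniq _ _ fun u v => by
    rw [act_mul ρ, hconj, hconj, ← act_mul ρ, mul_comm (conj l)]
  have hscal : ∀ c : F, conj (algebraMap F K c) = algebraMap F K (σ c) := fun c => huniq _ _ fun u v => by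
    rw [Algebra.algebraMap_eq_smul_one, Algebra.algebraMap_eq_smul_one, map_smul, map_smul, map_one,
      Matrix.smul_mulVec, Matrix.smul_mulVec, Matrix.one_mulVec, Matrix.one_mulVec, h.sesq.smul_left,
      h.sesq.smul_right]
    show c * _ = σ (σ c) * _
    rw [h.form.involutive]
  have hone : conj 1 = 1 := by rw [← (algebraMap F K).map_one, hscal, map_one]
  let ψ : K →ₐ[F] K :=
    { toFun := fun k => conj k ^ 8
      map_one' := by rw [hone, one_pow]
      map_mul' := fun k l => by rw [hmul, mul_pow]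
      map_zero' := by rw [← (algebraMap F K).map_zero, hscal, map_zero, map_zero, zero_pow (by norm_num)]
      map_add' := fun k l => by
        rw [hadd, show (8 : ℕ) = 2 ^ 3 from rfl, add_pow_char_pow]
      commutes' := fun c => by
        show conj (algebraMap F K c) ^ 8 = _
        rw [hscal, ← map_pow, h.apply_eq, ← pow_mul, show 2 * 8 = 4 * 4 from rfl, pow_mul, pow_four h4,
          pow_four h4] }
  let ψe : K ≃ₐ[F] K := AlgEquiv.ofBijective ψ
    (Finite.injective_iff_bijective.1 ψ.toRingHom.injective)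
  have hpow : ∀ (l : K) (i : ℕ), conj (l ^ i) = conj l ^ i := by
    intro l i
    induction i with
    | zero => rw [pow_zero, pow_zero, hone]
    | succ i ih => rw [pow_succ, hmul, ih, pow_succ]
  have hψ2 : ψe * ψe = 1 := AlgEquiv.ext fun l => by
    show conj (conj l ^ 8) ^ 8 = l
    rw [hpow, hconj2, ← pow_mul, show 8 * 8 = 64 from rfl, pow_64 h4 hfin]
  have hψ1 : ψe = 1 := by
    haveI : FiniteDimensional F K := Module.finite_of_finrank_eq_succ hfin
    have h3 : ψe ^ 3 = 1 := by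
      rw [← show Nat.card (K ≃ₐ[F] K) = 3 from (IsGalois.card_aut_eq_finrank F K).trans hfin]
      exact pow_card_eq_one'
    rwa [pow_succ, pow_two, hψ2, one_mul] at h3
  have h1 : conj k ^ 8 = k := AlgEquiv.congr_fun hψ1 k
  rw [hconj, show k ^ 8 = conj k from ?_]
  calc k ^ 8 = (conj k ^ 8) ^ 8 := by rw [h1]
    _ = conj k ^ 64 := by rw [← pow_mul]
    _ = conj k := pow_64 h4 hfin _

/-- A Hermitian form over the cubic field with a hyperbolic basis. -/
structure HypPair (σ : F ≃+* F) (f : (Fin 6 → F) → (Fin 6 → F) → F) where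
  hf : (Fin 6 → F) → (Fin 6 → F) → K
  a : Fin 6 → F
  b : Fin 6 → F
  spec : ∀ u v k, f (ρ k *ᵥ u) v = Algebra.trace F K (k * hf u v)
  ext_hf : ∀ u v l, (∀ k, f (ρ k *ᵥ u) v = Algebra.trace F K (k * l)) → hf u v = l
  add_l : ∀ u u' v, hf (u + u') v = hf u v + hf u' v
  add_r : ∀ u v v', hf u (v + v') = hf u v + hf u v'
  smul_l : ∀ j u v, hf (ρ j *ᵥ u) v = j * hf u v
  smul_r : ∀ j u v, hf u (ρ j *ᵥ v) = j ^ 8 * hf u v
  haa : hf a a = 0
  hbb : hf b b = 0
  hab : hf a b = 1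
  hba : hf b a = 1
  split : ∀ v, v = ρ (hf v b) *ᵥ a + ρ (hf v a) *ᵥ b

theorem exists_hypPair [CharP K 2] (h : Herm 2 σ f) (hfin : Module.finrank F K = 3)
    (hadj8 : ∀ k u v, f (ρ k *ᵥ u) v = f u (ρ (k ^ 8) *ᵥ v)) : Nonempty (HypPair ρ σ f) := by
  classical
  have h4 : Fintype.card F = 4 := h.card
  have h2A : (2 : K) = 0 := by exact_mod_cast CharP.cast_eq_zero K 2
  have h2 : (2 : F) = 0 := two_eq_zero h rfl
  have h64 : ∀ k : K, k ^ 64 = k := pow_64 h4 hfin
  haveI : FiniteDimensional F K := Module.finite_of_finrank_eq_succ hfin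
  have htrnd : (Algebra.traceForm F K).Nondegenerate := traceForm_nondegenerate F K
  have htrext : ∀ k l : K, (∀ j, Algebra.trace F K (j * k) = Algebra.trace F K (j * l)) → k = l := fun k l hkl => by
    rw [← sub_eq_zero]
    refine htrnd.2 _ fun j => ?_
    show Algebra.trace F K (j * (k - l)) = 0
    rw [mul_sub, map_sub, hkl, sub_self]
  let φ : (Fin 6 → F) → (Fin 6 → F) → Module.Dual F K := fun u v =>
    { toFun := fun k => f (ρ k *ᵥ u) v
      map_add' := fun k l => by rw [map_add, Matrix.add_mulVec, h.sesq.add_left]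
      map_smul' := fun c k => by rw [map_smul, Matrix.smul_mulVec, h.sesq.smul_left, RingHom.id_apply, smul_eq_mul] }
  let hf : (Fin 6 → F) → (Fin 6 → F) → K := fun u v => ((Algebra.traceForm F K).toDual htrnd).symm (φ u v)
  have hh : ∀ u v k, f (ρ k *ᵥ u) v = Algebra.trace F K (k * hf u v) := by
    intro u v k
    rw [mul_comm]
    exact (LinearMap.BilinForm.apply_toDual_symm_apply (B := Algebra.traceForm F K) (hB := htrnd) (φ u v) k).symm
  have hfe : ∀ u v l, (∀ k, f (ρ k *ᵥ u) v = Algebra.trace F K (k * l)) → hf u v = l := fun u v l hl =>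
    htrext _ _ fun k => (hh u v k).symm.trans (hl k)
  have hadd_l : ∀ u u' v, hf (u + u') v = hf u v + hf u' v := fun u u' v => hfe _ _ _ fun k => by
    rw [Matrix.mulVec_add, h.sesq.add_left, hh, hh, mul_add, map_add]
  have hadd_r : ∀ u v v', hf u (v + v') = hf u v + hf u v' := fun u v v' => hfe _ _ _ fun k => by
    rw [h.sesq.add_right, hh, hh, mul_add, map_add]
  have hsm_l : ∀ j u v, hf (ρ j *ᵥ u) v = j * hf u v := fun j u v => hfe _ _ _ fun k => by
    rw [← act_mul ρ, hh, mul_assoc]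
  have hsm_r : ∀ j u v, hf u (ρ j *ᵥ v) = j ^ 8 * hf u v := fun j u v => hfe _ _ _ fun k => by
    rw [show ρ j *ᵥ v = ρ ((j ^ 8) ^ 8) *ᵥ v by rw [← pow_mul, h64], ← hadj8, ← act_mul ρ, hh]
    congr 1; ring
  have hherm : ∀ u v, hf v u = hf u v ^ 8 := fun u v => hfe _ _ _ fun k => by
    rw [hadj8, h.form.herm, hh, ← trace_pow_eight h hfin]
    congr 1
    rw [mul_pow, ← pow_mul, h64]
  have hzero : ∀ v, hf 0 v = 0 := fun v => hfe _ _ _ fun k => by
    rw [mul_zero, map_zero, Matrix.mulVec_zero, h.zero_left]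
  have hnd : ∀ u, u ≠ 0 → ∃ v, hf u v ≠ 0 := fun u hu => by
    obtain ⟨v, hv⟩ := (h.form.nondegenerate u hu).2
    refine ⟨v, fun h0 => hv ?_⟩
    rw [← Matrix.one_mulVec u, ← map_one ρ, hh, h0, mul_zero, map_zero]
  have hiso : ∃ a, a ≠ 0 ∧ hf a a = 0 := by
    set e₀ : Fin 6 → F := Pi.single 0 1
    have he₀ : e₀ ≠ 0 := by simp [e₀]
    by_cases hα : hf e₀ e₀ = 0
    · exact ⟨e₀, he₀, hα⟩
    obtain ⟨v, hv⟩ : ∃ v, ∀ k, v ≠ ρ k *ᵥ e₀ := by
      by_contra hcon
      push Not at hcon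
      let L : K →ₗ[F] (Fin 6 → F) :=
        { toFun := fun k => ρ k *ᵥ e₀
          map_add' := fun k l => by rw [map_add, Matrix.add_mulVec]
          map_smul' := fun c k => by rw [map_smul, Matrix.smul_mulVec, RingHom.id_apply] }
      have hs : Function.Surjective L := fun v => (hcon v).imp fun k hk => hk.symm
      have := LinearMap.finrank_range_add_finrank_ker L
      rw [LinearMap.range_eq_top.2 hs, finrank_top, Module.finrank_fin_fun, hfin] at this
      omega
    set α := hf e₀ e₀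
    set w := v + ρ (hf v e₀ * α⁻¹) *ᵥ e₀
    have hw0 : w ≠ 0 := fun h0 => hv (-(hf v e₀ * α⁻¹)) (by
      rw [map_neg, Matrix.neg_mulVec]
      exact eq_neg_of_add_eq_zero_left h0)
    have hwe : hf w e₀ = 0 := by
      rw [hadd_l, hsm_l, mul_assoc, inv_mul_cancel₀ hα, mul_one]
      linear_combination hf v e₀ * h2A
    by_cases hβ : hf w w = 0
    · exact ⟨w, hw0, hβ⟩
    set β := hf w w
    have hc : (α * β⁻¹) ^ 8 = α * β⁻¹ := by rw [mul_pow, inv_pow, ← hherm, ← hherm]
    refine ⟨e₀ + ρ ((α * β⁻¹) ^ 4) *ᵥ w, fun h0 => ?_, ?_⟩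
    · have := congrArg (fun x => hf x e₀) h0
      simp only [hadd_l, hsm_l, hwe, mul_zero, add_zero, hzero] at this
      exact hα this
    · rw [hadd_l, hadd_r, hadd_r, hsm_l, hsm_l, hsm_r, hsm_r, hherm w e₀, hwe]
      have h36 : ((α * β⁻¹) ^ 4) ^ 8 * (α * β⁻¹) ^ 4 * β = α := by
        rw [← pow_mul, mul_comm 4 8, pow_mul, hc, ← pow_add, hc, mul_assoc, inv_mul_cancel₀ hβ, mul_one]
      linear_combination h36 + α * h2A
  obtain ⟨a, ha0, ha⟩ := hiso
  obtain ⟨c₀, hc₀⟩ := hnd a ha0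
  obtain ⟨c, hac⟩ : ∃ c, hf a c = 1 := ⟨ρ (((hf a c₀) ^ 8)⁻¹) *ᵥ c₀, by
    rw [hsm_r, inv_pow, ← pow_mul, h64, inv_mul_cancel₀ hc₀]⟩
  obtain ⟨ω, hω⟩ : ∃ ω : F, ω + σ ω = 1 := by
    obtain ⟨ω, hω⟩ : ∃ ω : F, σ ω ≠ ω := by
      by_contra hcon
      push Not at hcon
      exact h.form.ne_refl (RingEquiv.ext hcon)
    refine ⟨ω, ((fix_iff h).1 (?_ : σ (ω + σ ω) = ω + σ ω)).resolve_left fun h0 => hω ?_⟩
    · rw [map_add, h.form.involutive, add_comm]
    · linear_combination h0 - ω * h2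
  set γ := hf c c
  set b := c + ρ (algebraMap F K ω * γ) *ᵥ a
  have hab : hf a b = 1 := by rw [hadd_r, hac, hsm_r, ha, mul_zero, add_zero]
  have hba : hf b a = 1 := by rw [hherm, hab, one_pow]
  have hbb : hf b b = 0 := by
    have hca : hf c a = 1 := by rw [hherm, hac, one_pow]
    have h1 : algebraMap F K ω + algebraMap F K ω ^ 8 = 1 := by
      rw [← map_pow, ← map_add, ← (algebraMap F K).map_one]
      congr 1
      rw [← hω, h.apply_eq, show 8 = 4 * 2 from rfl, pow_mul, pow_four h4]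
    have hγ : γ ^ 8 = γ := (hherm c c).symm
    rw [hadd_l, hadd_r, hadd_r, hsm_l, hsm_l, hsm_r, hsm_r, hca, hac, ha, mul_pow, hγ]
    linear_combination γ * h1 + γ * h2A
  refine ⟨⟨hf, a, b, hh, hfe, hadd_l, hadd_r, hsm_l, hsm_r, ha, hbb, hab, hba, ?_⟩⟩
  let L : K × K →ₗ[F] (Fin 6 → F) :=
    { toFun := fun p => ρ p.1 *ᵥ a + ρ p.2 *ᵥ b
      map_add' := fun p p' => by simp only [Prod.fst_add, Prod.snd_add, map_add, Matrix.add_mulVec]; abel
      map_smul' := fun r p => by
        simp only [Prod.smul_fst, Prod.smul_snd, map_smul, Matrix.smul_mulVec, RingHom.id_apply, smul_add] }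
  have hL : ∀ p : K × K, hf (L p) b = p.1 ∧ hf (L p) a = p.2 := fun p => by
    show hf (ρ p.1 *ᵥ a + ρ p.2 *ᵥ b) b = p.1 ∧ hf (ρ p.1 *ᵥ a + ρ p.2 *ᵥ b) a = p.2
    simp only [hadd_l, hsm_l, hab, hba, ha, hbb, mul_one, mul_zero, add_zero, zero_add, and_self]
  have hinj : Function.Injective L := fun p p' hpp => by
    have h1 := hL p
    rw [hpp] at h1
    exact Prod.ext (h1.1.symm.trans (hL p').1) (h1.2.symm.trans (hL p').2)
  intro v
  obtain ⟨p, rfl⟩ := (LinearMap.injective_iff_surjective_of_finrank_eq_finrank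
    (by rw [Module.finrank_prod, hfin, Module.finrank_fin_fun])).1 hinj v
  rw [(hL p).1, (hL p).2]
  rfl

variable {ρ}

/-- The basis attached to a hyperbolic pair and a basis of the cubic field. -/
theorem HypPair.exists_basis (H : HypPair ρ σ f) (hfin : Module.finrank F K = 3)
    (B : Module.Basis (Fin 3) F K) :
    ∃ Bv : Module.Basis (Fin 2 × Fin 3) F (Fin 6 → F),
      (∀ l, Bv (0, l) = ρ (B l) *ᵥ H.a) ∧ ∀ l, Bv (1, l) = ρ (B l) *ᵥ H.b := by
  let L : K × K →ₗ[F] (Fin 6 → F) :=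
    { toFun := fun p => ρ p.1 *ᵥ H.a + ρ p.2 *ᵥ H.b
      map_add' := fun p p' => by simp only [Prod.fst_add, Prod.snd_add, map_add, Matrix.add_mulVec]; abel
      map_smul' := fun r p => by
        simp only [Prod.smul_fst, Prod.smul_snd, map_smul, Matrix.smul_mulVec, RingHom.id_apply, smul_add] }
  have hs : Function.Surjective L := fun v => ⟨(H.hf v H.b, H.hf v H.a), (H.split v).symm⟩
  haveI : FiniteDimensional F K := Module.finite_of_finrank_eq_succ hfin
  have hbij : Function.Bijective L := ⟨(LinearMap.injective_iff_surjective_of_finrank_eq_finrank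
    (by rw [Module.finrank_prod, hfin, Module.finrank_fin_fun])).2 hs, hs⟩
  refine ⟨((B.prod B).map (LinearEquiv.ofBijective L hbij)).reindex
    (((Equiv.sumCongr (Equiv.uniqueProd (Fin 3) (Fin 1)).symm (Equiv.uniqueProd (Fin 3) (Fin 1)).symm).trans
      (Equiv.sumProdDistrib (Fin 1) (Fin 1) (Fin 3)).symm).trans (Equiv.prodCongr finSumFinEquiv (Equiv.refl _))),
    fun l => ?_, fun l => ?_⟩
  · rw [Module.Basis.reindex_apply]
    show L ((B.prod B) (Sum.inl l)) = _
    simp [L]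
  · rw [Module.Basis.reindex_apply]
    show L ((B.prod B) (Sum.inr l)) = _
    simp [L]

/-- A twist with trivial determinant is a scalar. -/
theorem HypPair.twist_scalar [CharP K 2] (h : Herm 2 σ f) (H : HypPair ρ σ f) (hfin : Module.finrank F K = 3)
    {lam : K} (h9 : lam ^ 9 = 1) (hdet : (ρ lam).det = 1) : lam ^ 3 = 1 := by
  have h4 : Fintype.card F = 4 := h.card
  by_contra hne
  set ω' := Algebra.trace F K (lam ^ 3)
  have h3 : (lam ^ 3) ^ 3 = 1 := by rw [← pow_mul]; exact h9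
  have hωA : algebraMap F K ω' = lam ^ 3 := mem_base_of_pow_three h4 hfin h3
  have hlF : ∀ d, algebraMap F K d ≠ lam := fun d hd => hne (by
    have hd0 : d ≠ 0 := fun h0 => by rw [h0, map_zero] at hd; rw [← hd] at h9; simp at h9
    have := FiniteField.pow_card_sub_one_eq_one d hd0
    rw [h4] at this
    rw [← hd, ← map_pow, this, map_one])
  let B' : Module.Basis (Fin 3) F K := basisOfLinearIndependentOfCardEqFinrank
    (linearIndependent_three hfin hlF) (by rw [hfin]; simp)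
  have hB'' : ∀ i, B' i = ![1, lam, lam * lam] i := fun i => by simp [B']
  obtain ⟨BW, hBa, hBb⟩ := H.exists_basis hfin B'
  have hmon : ∀ l, lam * B' l = (![1, 1, ω'] l : F) • B' (finRotate 3 l) := by
    intro l
    rw [hB'', hB'']
    fin_cases l <;> simp [Algebra.smul_def, hωA] <;> ring
  have hval := det_monomial (two_eq_zero h rfl) BW (Matrix.toLin' (ρ lam))
    (Equiv.prodCongr (Equiv.refl _) (finRotate 3)) (fun i => ![1, 1, ω'] i.2) ?_
  · rw [LinearMap.det_toLin', hdet, Fintype.prod_prod_type] at hval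
    simp [Fin.prod_univ_three] at hval
    have h2' : algebraMap F K ω' * algebraMap F K ω' = 1 := by
      first
        | rw [← map_mul, ← hval, map_one]
        | rw [← map_mul, ← pow_two, ← hval, map_one]
    refine hne (hωA ▸ ?_)
    calc algebraMap F K ω' = algebraMap F K ω' * (algebraMap F K ω' * algebraMap F K ω') := by rw [h2', mul_one]
      _ = algebraMap F K ω' ^ 3 := by ring
      _ = 1 := by rw [hωA]; exact h3
  · rintro ⟨j, l⟩
    rw [Matrix.toLin'_apply]
    rcases (show ∀ j : Fin 2, j = 0 ∨ j = 1 by decide) j with rfl | rfl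
    · show _ = _ • BW (0, finRotate 3 l)
      rw [hBa, hBa, ← act_mul ρ, hmon, map_smul, Matrix.smul_mulVec]
    · show _ = _ • BW (1, finRotate 3 l)
      rw [hBb, hBb, ← act_mul ρ, hmon, map_smul, Matrix.smul_mulVec]

/-- A basis of the cubic field inside its subfield of eight elements. -/
theorem exists_fixed_basis [CharP K 2] (h : Herm 2 σ f) (hfin : Module.finrank F K = 3) :
    ∃ B : Module.Basis (Fin 3) F K, (∀ i, B i ^ 8 = B i) ∧
      (∀ k, k ^ 8 = k → ∀ i, B.repr k i ∈ fixedField σ) ∧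
      ∀ r : Fin 3 → F, (∀ i, r i ∈ fixedField σ) → (∑ i, r i • B i) ^ 8 = ∑ i, r i • B i := by
  classical
  have h4 : Fintype.card F = 4 := h.card
  obtain ⟨η, hη8, hη⟩ : ∃ η : K, η ^ 8 = η ∧ ∀ c, algebraMap F K c ≠ η := by
    obtain ⟨g, hg⟩ : ∃ g : Kˣ, orderOf g = 63 := by
      obtain ⟨g, hg⟩ := IsCyclic.exists_ofOrder_eq_natCard (α := Kˣ)
      exact ⟨g, by rw [hg, Nat.card_units, Nat.card_eq_fintype_card, card_cubic h4 hfin]⟩
    refine ⟨(g ^ 9 : Kˣ), ?_, fun d hd => ?_⟩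
    · rw [← Units.val_pow_eq_pow_val, ← pow_mul, show 9 * 8 = 63 + 9 by norm_num, pow_add, ← hg,
        pow_orderOf_eq_one, one_mul]
    · have h1 : ((g ^ 9) ^ 3 : Kˣ) = 1 := Units.ext (by
        rw [Units.val_pow_eq_pow_val, ← hd, ← map_pow, Units.val_one, ← (algebraMap F K).map_one]
        congr 1
        have hd0 : d ≠ 0 := fun h0 => (g ^ 9).ne_zero (by rw [← hd, h0, map_zero])
        have := FiniteField.pow_card_sub_one_eq_one d hd0
        rwa [h4] at this)
      rw [← pow_mul] at h1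
      exact absurd (Nat.le_of_dvd (by norm_num) (orderOf_dvd_of_pow_eq_one h1)) (by rw [hg]; norm_num)
  let B : Module.Basis (Fin 3) F K := basisOfLinearIndependentOfCardEqFinrank
    (linearIndependent_three hfin hη) (by rw [hfin]; simp)
  have hB : ∀ i, B i = ![1, η, η * η] i := fun i => by simp [B]
  have hB8 : ∀ i, B i ^ 8 = B i := fun i => by
    rw [hB]; fin_cases i <;> simp [hη8, mul_pow]
  have hsum : ∀ r : Fin 3 → F, (∑ i, r i • B i) ^ 8 = ∑ i, σ (r i) • B i := fun r => by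
    rw [show (8 : ℕ) = 2 ^ 3 from rfl, sum_pow_char_pow]
    refine Finset.sum_congr rfl fun j _ => ?_
    rw [smul_pow, show B j ^ 2 ^ 3 = B j from hB8 j, h.apply_eq, show 2 ^ 3 = 4 * 2 from rfl, pow_mul, pow_four h4]
  refine ⟨B, hB8, fun k hk i => ?_, fun r hr => ?_⟩
  · have h1 : k ^ 8 = ∑ j, σ (B.repr k j) • B j := by
      conv_lhs => rw [← B.sum_repr k]
      rw [hsum]
    have h3 := congrArg (fun x => B.repr x i) (hk.symm.trans h1)
    simp only [B.repr_sum_self] at h3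
    exact mem_fixedField.2 h3.symm
  · rw [hsum]
    exact Finset.sum_congr rfl fun j _ => by rw [mem_fixedField.1 (hr j)]

theorem exists_subfield_of_pair [CharP K 2] (h : Herm 2 σ f) (hfin : Module.finrank F K = 3)
    (P₀ : HypPair ρ σ f) {H : Subgroup (GL (Fin 6) F)} (hH : H ≤ unitarySL f)
    (htw : ∀ g ∈ H, ∃ τ : K ≃ₐ[F] K, ∀ k, ((g : GL (Fin 6) F) : Matrix (Fin 6) (Fin 6) F) * ρ k = ρ (τ k) * g) :
    ∃ (F₀ : Subfield F) (P : GL (Fin 6) F), Fintype.card F = Nat.card F₀ ^ 2 ∧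
      Geo.IsFormRationalStructure f F₀ 1 P ∧
      (∀ u : Fin 6 → F, (∀ i, u i ∈ F₀) →
        f ((P : Matrix (Fin 6) (Fin 6) F) *ᵥ u) ((P : Matrix (Fin 6) (Fin 6) F) *ᵥ u) = 0) ∧
      H ≤ Geo.subfieldSubgroup F₀ P := by
  classical
  obtain ⟨hf, a, b, hh, hfe, hadd_l, hadd_r, hsm_l, hsm_r, ha, hbb, hab, hba, hsplit⟩ := P₀
  have h4 : Fintype.card F = 4 := h.card
  have h2A : (2 : K) = 0 := by exact_mod_cast CharP.cast_eq_zero K 2
  obtain ⟨B, hB8, hfixed, hfixed'⟩ := exists_fixed_basis h hfin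
  obtain ⟨Bp, hBa, hBb⟩ := HypPair.exists_basis (⟨hf, a, b, hh, hfe, hadd_l, hadd_r, hsm_l, hsm_r, ha, hbb, hab,
    hba, hsplit⟩ : HypPair ρ σ f) hfin B
  let e : Fin 6 ≃ Fin 2 × Fin 3 := (finProdFinEquiv : Fin 2 × Fin 3 ≃ Fin 6).symm
  let Bv : Module.Basis (Fin 6) F (Fin 6 → F) := Bp.reindex e.symm
  let Pm : Matrix (Fin 6) (Fin 6) F := (Pi.basisFun F (Fin 6)).toMatrix Bv
  haveI : Invertible Pm := (Pi.basisFun F (Fin 6)).invertibleToMatrix Bv
  let P : GL (Fin 6) F := unitOfInvertible Pm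
  have hP : ∀ u, (P : Matrix (Fin 6) (Fin 6) F) *ᵥ u = ∑ i, u i • Bv i := fun u => by
    show Pm *ᵥ u = _
    funext j
    simp [Pm, Matrix.mulVec, dotProduct, Module.Basis.toMatrix_apply, Finset.sum_apply, mul_comm]
  have hP' : ∀ u, (P : Matrix (Fin 6) (Fin 6) F) *ᵥ u =
      ρ (∑ l, u (e.symm (0, l)) • B l) *ᵥ a + ρ (∑ l, u (e.symm (1, l)) • B l) *ᵥ b := fun u => by
    rw [hP, ← e.symm.sum_comp, Fintype.sum_prod_type, Fin.sum_univ_two]
    simp only [Bv, Module.Basis.reindex_apply, Equiv.symm_symm, Equiv.apply_symm_apply, hBa, hBb, map_sum, map_smul,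
      Matrix.sum_mulVec, Matrix.smul_mulVec]
  have hPu : ∀ u : Fin 6 → F, (∀ i, u i ∈ fixedField σ) → ∃ X Y : K, X ^ 8 = X ∧ Y ^ 8 = Y ∧
      (P : Matrix (Fin 6) (Fin 6) F) *ᵥ u = ρ X *ᵥ a + ρ Y *ᵥ b :=
    fun u hu => ⟨_, _, hfixed' _ fun l => hu _, hfixed' _ fun l => hu _, hP' u⟩
  have hform : ∀ X Y X' Y' : K, X' ^ 8 = X' → Y' ^ 8 = Y' →
      f (ρ X *ᵥ a + ρ Y *ᵥ b) (ρ X' *ᵥ a + ρ Y' *ᵥ b) = Algebra.trace F K (X * Y' + Y * X') := by
    intro X Y X' Y' hX hY
    conv_lhs => rw [← Matrix.one_mulVec (ρ X *ᵥ a + ρ Y *ᵥ b), ← map_one ρ]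
    rw [hh]
    simp only [hadd_l, hadd_r, hsm_l, hsm_r, ha, hab, hba, hbb, hX, hY, one_mul]
    congr 1
    ring
  refine ⟨fixedField σ, P, by rw [card_fixedField h, h4]; norm_num, fun u w hu hw => ?_, fun u hu => ?_, ?_⟩
  · obtain ⟨X, Y, hX, hY, he⟩ := hPu u hu
    obtain ⟨X', Y', hX', hY', he'⟩ := hPu w hw
    rw [one_mul, he, he', hform _ _ _ _ hX' hY', mem_fixedField, ← trace_pow_eight h hfin,
      show (8 : ℕ) = 2 ^ 3 from rfl, add_pow_char_pow, mul_pow, mul_pow, show 2 ^ 3 = 8 from rfl, hX, hY, hX', hY']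
  · obtain ⟨X, Y, hX, hY, he⟩ := hPu u hu
    rw [he, hform _ _ _ _ hX hY, show X * Y + Y * X = 0 by linear_combination X * Y * h2A, map_zero]
  intro g hg
  obtain ⟨τ, hτ⟩ := htw g hg
  have hgI := (hH hg).1
  have hgm : ∀ k v, (g : Matrix (Fin 6) (Fin 6) F) *ᵥ (ρ k *ᵥ v) = ρ (τ k) *ᵥ ((g : Matrix (Fin 6) (Fin 6) F) *ᵥ v) :=
    fun k v => by rw [Matrix.mulVec_mulVec, hτ, ← Matrix.mulVec_mulVec]
  have hgh : ∀ u v, hf ((g : Matrix (Fin 6) (Fin 6) F) *ᵥ u) ((g : Matrix (Fin 6) (Fin 6) F) *ᵥ v) = τ (hf u v) := by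
    intro u v
    refine hfe _ _ _ fun k => ?_
    obtain ⟨k, rfl⟩ := τ.surjective k
    rw [← hgm, mem_preserving.1 hgI, hh, ← map_mul]
    exact (Algebra.trace_eq_of_algEquiv τ _).symm
  set x := hf ((g : Matrix (Fin 6) (Fin 6) F) *ᵥ a) b with hxdef
  set y := hf ((g : Matrix (Fin 6) (Fin 6) F) *ᵥ a) a with hydef
  set z := hf ((g : Matrix (Fin 6) (Fin 6) F) *ᵥ b) b with hzdef
  set w := hf ((g : Matrix (Fin 6) (Fin 6) F) *ᵥ b) a with hwdef
  have hga : (g : Matrix (Fin 6) (Fin 6) F) *ᵥ a = ρ x *ᵥ a + ρ y *ᵥ b := hsplit _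
  have hgb : (g : Matrix (Fin 6) (Fin 6) F) *ᵥ b = ρ z *ᵥ a + ρ w *ᵥ b := hsplit _
  have e1 := hgh a a
  have e2 := hgh b b
  have e3 := hgh a b
  rw [hga, ha] at e1
  rw [hgb, hbb] at e2
  rw [hga, hgb, hab] at e3
  simp only [hadd_l, hadd_r, hsm_l, hsm_r, ha, hab, hba, hbb, mul_one, mul_zero, zero_add, add_zero, map_zero,
    map_one] at e1 e2 e3
  obtain ⟨lam, h9, hlam⟩ := exists_twist x y z w (pow_64 h4 hfin) (by linear_combination e1)
    (by linear_combination e2) (by linear_combination e3)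
  obtain ⟨xe, hxe, hx⟩ := hlam x (by simp)
  obtain ⟨ye, hye, hy⟩ := hlam y (by simp)
  obtain ⟨ze, hze, hz⟩ := hlam z (by simp)
  obtain ⟨we, hwe, hw⟩ := hlam w (by simp)
  have himg : ∀ i, ∃ X Y : K, X ^ 8 = X ∧ Y ^ 8 = Y ∧
      (g : Matrix (Fin 6) (Fin 6) F) *ᵥ Bv i = ρ lam *ᵥ (ρ X *ᵥ a + ρ Y *ᵥ b) := by
    intro i
    obtain ⟨⟨j, l⟩, rfl⟩ := e.symm.surjective i
    have hk : τ (B l) ^ 8 = τ (B l) := by rw [← map_pow, hB8]
    simp only [Bv, Module.Basis.reindex_apply, Equiv.symm_symm, Equiv.apply_symm_apply]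
    rcases (show ∀ j : Fin 2, j = 0 ∨ j = 1 by decide) j with rfl | rfl
    · refine ⟨τ (B l) * xe, τ (B l) * ye, by rw [mul_pow, hk, hxe], by rw [mul_pow, hk, hye], ?_⟩
      rw [hBa, hgm, hga, hx, hy, Matrix.mulVec_add, Matrix.mulVec_add]
      simp only [← act_mul ρ]
      rw [mul_left_comm, mul_left_comm (τ (B l)) lam]
    · refine ⟨τ (B l) * ze, τ (B l) * we, by rw [mul_pow, hk, hze], by rw [mul_pow, hk, hwe], ?_⟩
      rw [hBb, hgm, hgb, hz, hw, Matrix.mulVec_add, Matrix.mulVec_add]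
      simp only [← act_mul ρ]
      rw [mul_left_comm, mul_left_comm (τ (B l)) lam]
  choose X Y hX hY himg' using himg
  let R : Fin 6 → Fin 6 → F := fun i j => B.repr (if (e j).1 = 0 then X i else Y i) (e j).2
  have hR : ∀ i j, R i j ∈ fixedField σ := fun i j => hfixed _ (by split_ifs <;> [exact hX i; exact hY i]) _
  have hRe : ∀ i, (g : Matrix (Fin 6) (Fin 6) F) *ᵥ Bv i = ρ lam *ᵥ ((P : Matrix (Fin 6) (Fin 6) F) *ᵥ R i) := by
    intro i
    rw [himg', hP']
    simp [R, B.sum_repr]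
  let S₀ : Matrix (Fin 6) (Fin 6) (fixedField σ) := Matrix.of fun j i => ⟨R i j, hR i j⟩
  have hgP : (g : Matrix (Fin 6) (Fin 6) F) * (P : Matrix (Fin 6) (Fin 6) F) =
      ρ lam * ((P : Matrix (Fin 6) (Fin 6) F) * (fixedField σ).subtype.mapMatrix S₀) := by
    refine Matrix.ext_of_mulVec_single fun i => ?_
    rw [← Matrix.mulVec_mulVec, ← Matrix.mulVec_mulVec, ← Matrix.mulVec_mulVec, hP,
      Finset.sum_eq_single i (fun j _ hj => by rw [Pi.single_eq_of_ne hj, zero_smul])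
        (fun hn => absurd (Finset.mem_univ i) hn), Pi.single_eq_same, one_smul, hRe]
    congr 2
    funext j
    simp [S₀]
  have hdet := congrArg Matrix.det hgP
  have hg1 : (g : Matrix (Fin 6) (Fin 6) F).det = 1 := by
    simpa using congrArg Units.val (MonoidHom.mem_ker.1 (hH hg).2)
  rw [Matrix.det_mul, Matrix.det_mul, Matrix.det_mul, hg1, one_mul, ← RingHom.map_det] at hdet
  have hS₀ : S₀.det ≠ 0 := fun h0 => ((Matrix.isUnit_iff_isUnit_det _).1 P.isUnit).ne_zero (by
    rw [h0, map_zero, mul_zero, mul_zero] at hdet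
    exact hdet)
  have hlam1 : (ρ lam).det = 1 := by
    have h1 : ((fixedField σ).subtype S₀.det) = 1 :=
      ((fix_iff h).1 (mem_fixedField.1 S₀.det.2)).resolve_left fun h0 => hS₀ (Subtype.ext h0)
    rw [h1, mul_one] at hdet
    exact mul_right_cancel₀ ((Matrix.isUnit_iff_isUnit_det _).1 P.isUnit).ne_zero (hdet.symm.trans (one_mul _).symm)
  have hscalar : algebraMap F K (Algebra.trace F K lam) = lam :=
    mem_base_of_pow_three h4 hfin (HypPair.twist_scalar h
      (⟨hf, a, b, hh, hfe, hadd_l, hadd_r, hsm_l, hsm_r, ha, hbb, hab, hba, hsplit⟩ : HypPair ρ σ f) hfin h9 hlam1)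
  set d := Algebra.trace F K lam
  have hd0 : d ≠ 0 := fun h0 => by
    rw [← hscalar, h0, map_zero, map_zero, Matrix.det_zero] at hlam1
    exact zero_ne_one hlam1
  rw [← hscalar, AlgHom.commutes] at hgP
  let zs : GL (Fin 6) F := Units.map (Matrix.scalar (Fin 6) : F →+* Matrix (Fin 6) (Fin 6) F).toMonoidHom (Units.mk0 d hd0)
  refine ⟨Matrix.GeneralLinearGroup.map (fixedField σ).subtype (Matrix.GeneralLinearGroup.mkOfDetNeZero S₀ hS₀) * zs,
    Subgroup.mul_mem_sup ⟨_, rfl⟩ ⟨_, rfl⟩, ?_⟩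
  show P * _ * P⁻¹ = g
  rw [mul_inv_eq_iff_eq_mul]
  refine Units.ext ?_
  rw [Units.val_mul, Units.val_mul, Units.val_mul, hgP]
  show (P : Matrix (Fin 6) (Fin 6) F) * ((fixedField σ).subtype.mapMatrix S₀ * Matrix.scalar (Fin 6) d) = _
  rw [Matrix.algebraMap_eq_diagonal, ← mul_assoc]
  exact ((Matrix.scalar_commute d (fun _ => Commute.all _ _) _).eq).symm

end Embedded

/-- The normaliser of a cubic field in `SU₆(2)` lies in a subfield subgroup of symplectic type. -/
theorem exists_subfield_of_cubic (h : Herm 2 σ f) {H : Subgroup (GL (Fin 6) F)} (hH : H ≤ unitarySL f)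
    {A : Subalgebra F (Matrix (Fin 6) (Fin 6) F)} (hA : Geo.IsFieldSubalgebra 3 A)
    (hcl : Geo.IsAdjointClosedFor f A) (hle : H ≤ Geo.subalgebraNormalizer A) :
    ∃ (F₀ : Subfield F) (P : GL (Fin 6) F), Fintype.card F = Nat.card F₀ ^ 2 ∧
      Geo.IsFormRationalStructure f F₀ 1 P ∧
      (∀ u : Fin 6 → F, (∀ i, u i ∈ F₀) →
        f ((P : Matrix (Fin 6) (Fin 6) F) *ᵥ u) ((P : Matrix (Fin 6) (Fin 6) F) *ᵥ u) = 0) ∧
      H ≤ Geo.subfieldSubgroup F₀ P := by
  classical
  letI : Field A := (isField_of_isFieldSubalgebra hA).toField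
  have hfin : Module.finrank F A = 3 := hA.finrank_eq
  haveI : Module.Finite F A := Module.finite_of_finrank_eq_succ hfin
  haveI : Finite A := Module.finite_of_finite F
  letI : Fintype A := Fintype.ofFinite A
  haveI : CharP F 2 := CharTwo.of_one_ne_zero_of_two_eq_zero one_ne_zero (two_eq_zero h rfl)
  haveI : CharP A 2 := charP_of_injective_algebraMap (algebraMap F A).injective 2
  obtain ⟨P₀⟩ := exists_hypPair A.val h hfin
    (adjoint_eq_pow A.val h hfin fun k => by
      obtain ⟨l, hl, hl'⟩ := hcl _ k.2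
      exact ⟨⟨l, hl⟩, hl'⟩)
  refine exists_subfield_of_pair h hfin P₀ hH fun g hg => ?_
  have hgA := hle hg
  let τl : A →ₐ[F] A :=
    { toFun := fun k => ⟨_, (hgA _).1 k.2⟩
      map_one' := Subtype.ext (by simp)
      map_mul' := fun k l => Subtype.ext (by
        show _ = (g : Matrix (Fin 6) (Fin 6) F) * (k : Matrix (Fin 6) (Fin 6) F) * ((g⁻¹ : GL (Fin 6) F) : Matrix _ _ F) *
          ((g : Matrix (Fin 6) (Fin 6) F) * (l : Matrix (Fin 6) (Fin 6) F) * ((g⁻¹ : GL (Fin 6) F) : Matrix _ _ F))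
        simp [mul_assoc])
      map_zero' := Subtype.ext (by simp)
      map_add' := fun k l => Subtype.ext (by simp [mul_add, add_mul])
      commutes' := fun r => Subtype.ext (by simp [Algebra.algebraMap_eq_smul_one]) }
  refine ⟨AlgEquiv.ofBijective τl (Finite.injective_iff_bijective.1 τl.toRingHom.injective), fun k => ?_⟩
  show _ = (g : Matrix (Fin 6) (Fin 6) F) * (k : Matrix (Fin 6) (Fin 6) F) * ((g⁻¹ : GL (Fin 6) F) : Matrix _ _ F) * _
  simp [mul_assoc]

end Cfsg.Agent.Aschbacher.SUExplicit
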